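/-
Inverse image of quasi-coherent ideal sheaves, computed on affine opens, and elementary facts about
nonzerodivisor sections of the structure sheaf.
-/
import Mathlib.AlgebraicGeometry.IdealSheaf.Functorial
import Mathlib.AlgebraicGeometry.AffineScheme

universe u

open CategoryTheory AlgebraicGeometry TopologicalSpace Opposite

namespace Groth.Divisors

variable {X Y : Scheme.{u}}

theorem ideal_comap_of_openImm (I : Y.IdealSheafData) (f : X ⟶ Y) [IsOpenImmersion f]
    (U : Y.affineOpens) (V : X.affineOpens) (h : V.1 ≤ f ⁻¹ᵁ U.1) :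
    (I.comap f).ideal V = (I.ideal U).map (f.appLE U.1 V.1 h).hom := by
  have hVU : f ''ᵁ V.1 ≤ U.1 :=
    (f.image_mono h).trans (f.image_preimage_eq_opensRange_inf U.1 ▸ inf_le_right)
  rw [Scheme.IdealSheafData.ideal_comap_of_isOpenImmersion]
  rw [← I.map_ideal (U := ⟨f ''ᵁ V.1, V.2.image_of_isOpenImmersion f⟩) (V := U) hVU]
  have e : (f.appLE U.1 V.1 h).hom =
      (f.appIso V.1).hom.hom.comp (Y.presheaf.map (homOfLE hVU).op).hom := by
    rw [← CommRingCat.hom_comp]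
    congr 1
    rw [← Iso.comp_inv_eq, Scheme.Hom.appLE_appIso_inv]
  rw [e, ← Ideal.map_map]
  exact (Ideal.map_comap_of_equiv (f.appIso V.1).commRingCatIsoToRingEquiv).symm

theorem ideal_comap_top [IsAffine X] [IsAffine Y] (I : Y.IdealSheafData) (f : X ⟶ Y) :
    (I.comap f).ideal ⟨⊤, isAffineOpen_top X⟩ =
      (I.ideal ⟨⊤, isAffineOpen_top Y⟩).map f.appTop.hom := by
  apply le_antisymm
  · let J : X.IdealSheafData := Scheme.IdealSheafData.ofIdealTop
      ((I.ideal ⟨⊤, isAffineOpen_top Y⟩).map f.appTop.hom)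
    have hJ : J.ideal ⟨⊤, isAffineOpen_top X⟩ =
        (I.ideal ⟨⊤, isAffineOpen_top Y⟩).map f.appTop.hom := by
      simp [J]
    rw [← hJ]
    refine Scheme.IdealSheafData.le_map_iff_comap_le.mp ?_ _
    apply Scheme.IdealSheafData.le_of_isAffine
    rw [Scheme.IdealSheafData.ideal_map (H := isAffineOpen_top X)]
    refine Ideal.map_le_iff_le_comap.mp ?_
    exact hJ.ge
  · rw [Ideal.map_le_iff_le_comap]
    have := (I.le_map_comap f) ⟨⊤, isAffineOpen_top Y⟩
    rw [Scheme.IdealSheafData.ideal_map (H := isAffineOpen_top X)] at this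
    exact this

theorem ideal_comap_affine (I : Y.IdealSheafData) (f : X ⟶ Y)
    (U : Y.affineOpens) (V : X.affineOpens) (h : V.1 ≤ f ⁻¹ᵁ U.1) :
    (I.comap f).ideal V = (I.ideal U).map (f.appLE U.1 V.1 h).hom := by
  have : IsAffine V.1 := V.2
  have : IsAffine U.1 := U.2
  let g := f.resLE U.1 V.1 h
  have hg : g ≫ U.1.ι = V.1.ι ≫ f := f.resLE_comp_ι h
  have h1 := ideal_comap_top (I.comap U.1.ι) g
  rw [← Scheme.IdealSheafData.comap_comp, hg, Scheme.IdealSheafData.comap_comp,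
    ideal_comap_of_openImm (I.comap f) V.1.ι V ⟨⊤, isAffineOpen_top _⟩ (by simp),
    ideal_comap_of_openImm I U.1.ι U ⟨⊤, isAffineOpen_top _⟩ (by simp), Ideal.map_map] at h1
  have e : (V.1.ι.appLE V.1 ⊤ (by simp)).hom.comp (f.appLE U.1 V.1 h).hom =
      g.appTop.hom.comp (U.1.ι.appLE U.1 ⊤ (by simp)).hom := by
    have e0 : g.appTop = g.appLE ⊤ ⊤ le_rfl := g.app_eq_appLE
    rw [← CommRingCat.hom_comp, ← CommRingCat.hom_comp, e0]
    congr 1
    rw [Scheme.Hom.appLE_comp_appLE]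
    refine Eq.trans ?_ (Scheme.Hom.appLE_comp_appLE _ _ _ _ _ _ _).symm
    simp only [hg]
  rw [← e, ← Ideal.map_map] at h1
  have hinj : Function.Bijective (V.1.ι.appLE V.1 ⊤ (by simp)).hom := by
    have hiso : IsIso (V.1.ι.appLE V.1 ⊤ (by simp) ≫ (V.1.ι.appIso ⊤).inv) := by
      rw [Scheme.Hom.appLE_appIso_inv]
      have he : (V.1.ι ''ᵁ ⊤ : X.Opens) = V.1 := by simp
      have : IsIso (homOfLE he.le : (V.1.ι ''ᵁ ⊤ : X.Opens) ⟶ V.1) :=
        ⟨homOfLE he.ge, Subsingleton.elim _ _, Subsingleton.elim _ _⟩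
      exact inferInstanceAs (IsIso (X.presheaf.map (homOfLE he.le).op))
    have := IsIso.of_isIso_comp_right (V.1.ι.appLE V.1 ⊤ _) (V.1.ι.appIso ⊤).inv
    exact ConcreteCategory.bijective_of_isIso _
  have h2 := congrArg (Ideal.comap (V.1.ι.appLE V.1 ⊤ (by simp)).hom) h1
  rw [Ideal.comap_map_of_bijective _ hinj, Ideal.comap_map_of_bijective _ hinj] at h2
  exact h2

theorem exists_affine_le (x : X) (O : X.Opens) (hx : x ∈ O) :
    ∃ W : X.affineOpens, x ∈ W.1 ∧ W.1 ≤ O := by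
  obtain ⟨_, ⟨W, hW, rfl⟩, hxW, hle⟩ := X.isBasis_affineOpens.exists_subset_of_mem_open hx O.2
  exact ⟨⟨W, hW⟩, hxW, hle⟩

theorem ext_of_cover {I J : X.IdealSheafData}
    (h : ∀ x : X, ∃ V : X.affineOpens, x ∈ V.1 ∧ I.ideal V = J.ideal V) : I = J := by
  choose V hV hIJ using h
  exact Scheme.IdealSheafData.ext_of_iSup_eq_top V
    (top_le_iff.mp fun x _ => Opens.mem_iSup.mpr ⟨x, hV x⟩) hIJ

theorem comap_mul (I J : Y.IdealSheafData) (f : X ⟶ Y) :
    (I * J).comap f = I.comap f * J.comap f := by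
  refine ext_of_cover fun x => ?_
  obtain ⟨U, hU, -⟩ := exists_affine_le (f x) ⊤ trivial
  obtain ⟨V, hV, hVU⟩ := exists_affine_le x (f ⁻¹ᵁ U.1) hU
  refine ⟨V, hV, ?_⟩
  simp [ideal_comap_affine _ f U V hVU, Ideal.map_mul]

theorem comap_pow (I : Y.IdealSheafData) (f : X ⟶ Y) (n : ℕ) :
    (I ^ n).comap f = I.comap f ^ n := by
  induction n with
  | zero => simp
  | succ n ih => rw [pow_succ, pow_succ, comap_mul, ih]

/-! Nonzerodivisor sections. -/

/-- Every germ of `s` is a nonzerodivisor. -/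
def IsNzdSec {U : X.Opens} (s : Γ(X, U)) : Prop :=
  ∀ (x : X) (hx : x ∈ U), X.presheaf.germ U x hx s ∈ nonZeroDivisors (X.presheaf.stalk x)

theorem section_ext {U : X.Opens} {s t : Γ(X, U)}
    (h : ∀ (x : X) (hx : x ∈ U), X.presheaf.germ U x hx s = X.presheaf.germ U x hx t) : s = t :=
  TopCat.Presheaf.section_ext X.sheaf U s t h

theorem IsNzdSec.mem_nonZeroDivisors {U : X.Opens} {s : Γ(X, U)} (hs : IsNzdSec s) :
    s ∈ nonZeroDivisors Γ(X, U) := by
  rw [mem_nonZeroDivisors_iff_right]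
  intro t ht
  refine section_ext fun x hx => ?_
  have := congrArg (X.presheaf.germ U x hx).hom ht
  simp only [map_mul, map_zero] at this ⊢
  exact mem_nonZeroDivisors_iff_right.mp (hs x hx) _ this

theorem isNzdSec_of_mem {U : X.Opens} (hU : IsAffineOpen U) {s : Γ(X, U)}
    (hs : s ∈ nonZeroDivisors Γ(X, U)) : IsNzdSec s := by
  intro x hx
  let _ := TopCat.Presheaf.algebra_section_stalk X.presheaf ⟨x, hx⟩
  have := hU.isLocalization_stalk ⟨x, hx⟩
  rw [mem_nonZeroDivisors_iff_right]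
  intro z hz
  obtain ⟨a, b, rfl⟩ :=
    IsLocalization.exists_mk'_eq (hU.primeIdealOf ⟨x, hx⟩).asIdeal.primeCompl z
  change IsLocalization.mk' _ a b * algebraMap Γ(X, U) (X.presheaf.stalk x) s = 0 at hz
  have e : IsLocalization.mk' (X.presheaf.stalk x) a b * algebraMap _ _ s =
      IsLocalization.mk' (X.presheaf.stalk x) (a * s) b := by
    rw [mul_comm, IsLocalization.mul_mk'_eq_mk'_of_mul, mul_comm s a]
  rw [e, IsLocalization.mk'_eq_zero_iff] at hz
  obtain ⟨c, hc⟩ := hz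
  rw [IsLocalization.mk'_eq_zero_iff]
  refine ⟨c, mem_nonZeroDivisors_iff_right.mp hs _ ?_⟩
  rw [mul_assoc]; exact hc

theorem isNzdSec_iff {U : X.Opens} (hU : IsAffineOpen U) {s : Γ(X, U)} :
    IsNzdSec s ↔ s ∈ nonZeroDivisors Γ(X, U) :=
  ⟨IsNzdSec.mem_nonZeroDivisors, isNzdSec_of_mem hU⟩

theorem IsNzdSec.res {U V : X.Opens} {s : Γ(X, U)} (hs : IsNzdSec s) (h : V ≤ U) :
    IsNzdSec (X.presheaf.map (homOfLE h).op s) := by
  intro x hx
  rw [TopCat.Presheaf.germ_res_apply]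
  exact hs x (h hx)

theorem isNzdSec_one (U : X.Opens) : IsNzdSec (1 : Γ(X, U)) := by
  intro x hx; simp

theorem IsNzdSec.mul {U : X.Opens} {s t : Γ(X, U)} (hs : IsNzdSec s) (ht : IsNzdSec t) :
    IsNzdSec (s * t) := by
  intro x hx; rw [map_mul]; exact Submonoid.mul_mem _ (hs x hx) (ht x hx)

/-- A nonzerodivisor germ is killed by no generization: for a maximal point nonunit germs are
zero divisors. -/
theorem isUnit_germ_of_maximal {U : X.Opens} (hU : IsAffineOpen U) {s : Γ(X, U)} (hs : IsNzdSec s)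
    {x : X} (hx : x ∈ U) (hmax : ∀ y : X, y ⤳ x → y = x) :
    IsUnit (X.presheaf.germ U x hx s) := by
  set p := hU.primeIdealOf ⟨x, hx⟩ with hp
  have hmin : p.asIdeal ∈ minimalPrimes Γ(X, U) := by
    refine ⟨⟨p.2, bot_le⟩, fun q hq hqp => ?_⟩
    let q' : PrimeSpectrum Γ(X, U) := ⟨q, hq.1⟩
    have hsp : q' ⤳ p := (PrimeSpectrum.le_iff_specializes q' p).mp hqp
    have h2 : hU.fromSpec q' ⤳ x := by
      have := hsp.map hU.fromSpec.continuous
      rwa [hp, hU.fromSpec_primeIdealOf] at this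
    have e := hmax _ h2
    have : q' = p := by
      apply hU.fromSpec.isOpenEmbedding.injective
      rw [hp, hU.fromSpec_primeIdealOf]; exact e
    exact (congrArg PrimeSpectrum.asIdeal this).ge
  have hnot : s ∉ p.asIdeal := fun h =>
    notMem_nonZeroDivisors_of_mem_mem_minimalPrimes h hmin hs.mem_nonZeroDivisors
  let _ := TopCat.Presheaf.algebra_section_stalk X.presheaf ⟨x, hx⟩
  have := hU.isLocalization_stalk ⟨x, hx⟩
  exact IsLocalization.map_units (X.presheaf.stalk x) (⟨s, hnot⟩ : p.asIdeal.primeCompl)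

end Groth.Divisors
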