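/-
Effective Cartier ideal sheaves: local generators, complement of the support, products, inverse images.
-/
import Groth.Prelude.Def_BlowUp2
import Groth.Agent.Divisors.IdealComap
import Mathlib.AlgebraicGeometry.Morphisms.Flat
import Mathlib.RingTheory.Flat.TorsionFree

universe u

open CategoryTheory AlgebraicGeometry TopologicalSpace Opposite BlowUp

namespace Groth.Divisors

variable {X Y : Scheme.{u}}

/-- Around every point there is a small affine open on which the ideal has a generator with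
nonzerodivisor germs. -/
theorem exists_generator {I : X.IdealSheafData} (hI : IsEffCartierIdeal I) (x : X) (O : X.Opens)
    (hx : x ∈ O) :
    ∃ W : X.affineOpens, x ∈ W.1 ∧ W.1 ≤ O ∧
      ∃ g : Γ(X, W.1), IsNzdSec g ∧ I.ideal W = Ideal.span {g} := by
  obtain ⟨U, hxU, g, hg, hI⟩ := hI x
  obtain ⟨W, hxW, hW⟩ := exists_affine_le x (U.1 ⊓ O) ⟨hxU, hx⟩
  refine ⟨W, hxW, hW.trans inf_le_right, X.presheaf.map (homOfLE (hW.trans inf_le_left)).op g,
    (isNzdSec_of_mem U.2 hg).res _, ?_⟩
  rw [← I.map_ideal (U := W) (V := U) (hW.trans inf_le_left), hI, Ideal.map_span,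
    Set.image_singleton]
  rfl

theorem isEffCartierIdeal_of_local {I : X.IdealSheafData}
    (h : ∀ x : X, ∃ W : X.affineOpens, x ∈ W.1 ∧ ∃ g : Γ(X, W.1), IsNzdSec g ∧
      I.ideal W = Ideal.span {g}) : IsEffCartierIdeal I := fun x => by
  obtain ⟨W, hx, g, hg, hI⟩ := h x
  exact ⟨W, hx, g, hg.mem_nonZeroDivisors, hI⟩

theorem isEffCartierIdeal_top : IsEffCartierIdeal (⊤ : X.IdealSheafData) := by
  refine isEffCartierIdeal_of_local fun x => ?_
  obtain ⟨W, hW, -⟩ := exists_affine_le x ⊤ trivial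
  exact ⟨W, hW, 1, isNzdSec_one _, by simp⟩

theorem isEffCartierIdeal_mul {I J : X.IdealSheafData} (hI : IsEffCartierIdeal I)
    (hJ : IsEffCartierIdeal J) : IsEffCartierIdeal (I * J) := by
  refine isEffCartierIdeal_of_local fun x => ?_
  obtain ⟨W, hxW, -, g, hg, hgI⟩ := exists_generator hI x ⊤ trivial
  obtain ⟨W', hxW', hle, h, hh, hhJ⟩ := exists_generator hJ x W.1 hxW
  refine ⟨W', hxW', X.presheaf.map (homOfLE hle).op g * h, (hg.res _).mul hh, ?_⟩
  simp only [Scheme.IdealSheafData.ideal_mul, Pi.mul_apply]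
  rw [← I.map_ideal (U := W') (V := W) hle, hgI, Ideal.map_span, Set.image_singleton, hhJ,
    Ideal.span_singleton_mul_span_singleton]
  rfl

theorem isEffCartierIdeal_pow {I : X.IdealSheafData} (hI : IsEffCartierIdeal I) (n : ℕ) :
    IsEffCartierIdeal (I ^ n) := by
  induction n with
  | zero =>
    rw [pow_zero]
    exact isEffCartierIdeal_top
  | succ n ih => rw [pow_succ]; exact isEffCartierIdeal_mul ih hI

theorem mem_support_iff_not_isUnit {I : X.IdealSheafData} {W : X.affineOpens} {g : Γ(X, W.1)}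
    (hI : I.ideal W = Ideal.span {g}) {x : X} (hx : x ∈ W.1) :
    x ∈ I.support ↔ ¬ IsUnit (X.presheaf.germ W.1 x hx g) := by
  rw [Scheme.IdealSheafData.mem_support_iff_of_mem hx, hI, Scheme.zeroLocus_span]
  simp [Scheme.mem_zeroLocus_iff, Scheme.mem_basicOpen _ _ _ hx]

theorem not_mem_support_iff {I : X.IdealSheafData} {W : X.affineOpens} {g : Γ(X, W.1)}
    (hI : I.ideal W = Ideal.span {g}) {x : X} (hx : x ∈ W.1) :
    x ∉ I.support ↔ IsUnit (X.presheaf.germ W.1 x hx g) := by
  rw [mem_support_iff_not_isUnit hI hx, not_not]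

/-- A section which vanishes off the support of an effective Cartier divisor vanishes. -/
theorem eq_zero_of_off_support {I : X.IdealSheafData} (hI : IsEffCartierIdeal I) {U : X.Opens}
    (s : Γ(X, U))
    (h : ∀ (x : X) (hx : x ∈ U), x ∉ I.support → X.presheaf.germ U x hx s = 0) : s = 0 := by
  refine section_ext fun x hx => ?_
  rw [map_zero]
  obtain ⟨W, hxW, hle, g, hg, hgI⟩ := exists_generator hI x U hx
  set s' := X.presheaf.map (homOfLE hle).op s with hs'
  have h0 : X.presheaf.map (homOfLE (X.basicOpen_le g)).op s' = 0 := by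
    refine section_ext fun y hy => ?_
    rw [TopCat.Presheaf.germ_res_apply, map_zero, hs', TopCat.Presheaf.germ_res_apply]
    exact h y _ ((not_mem_support_iff hgI (X.basicOpen_le g hy)).mpr
      ((X.mem_basicOpen g y (X.basicOpen_le g hy)).mp hy))
  have hloc := W.2.isLocalization_basicOpen g
  obtain ⟨⟨_, n, rfl⟩, hn⟩ := (IsLocalization.map_eq_zero_iff (Submonoid.powers g)
    Γ(X, X.basicOpen g) s').mp h0
  have hs0 : s' = 0 := mem_nonZeroDivisors_iff_right.mp
    (Submonoid.pow_mem _ hg.mem_nonZeroDivisors n) _ (by rw [mul_comm]; exact hn)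
  rw [← TopCat.Presheaf.germ_res_apply X.presheaf (homOfLE hle) x hxW s, ← hs', hs0, map_zero]

/-- Nonzerodivisor germs off the support of an effective Cartier divisor are nonzerodivisors
everywhere. -/
theorem isNzdSec_of_off_support {I : X.IdealSheafData} (hI : IsEffCartierIdeal I) {U : X.Opens}
    (s : Γ(X, U))
    (h : ∀ (x : X) (hx : x ∈ U), x ∉ I.support →
      X.presheaf.germ U x hx s ∈ nonZeroDivisors (X.presheaf.stalk x)) : IsNzdSec s := by
  intro x hx
  rw [mem_nonZeroDivisors_iff_right]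
  intro a ha
  obtain ⟨V, hxV, t, rfl⟩ := TopCat.Presheaf.exists_germ_eq X.presheaf a
  rw [← TopCat.Presheaf.germ_res_apply X.presheaf (homOfLE (inf_le_left : V ⊓ U ≤ V)) x ⟨hxV, hx⟩ t,
    ← TopCat.Presheaf.germ_res_apply X.presheaf (homOfLE (inf_le_right : V ⊓ U ≤ U)) x ⟨hxV, hx⟩ s,
    ← map_mul, ← map_zero (X.presheaf.germ (V ⊓ U) x ⟨hxV, hx⟩).hom] at ha
  obtain ⟨W, hxW, i, j, he⟩ := X.presheaf.germ_eq x _ _ _ _ ha
  rw [map_zero, map_mul] at he
  have key : X.presheaf.map i.op (X.presheaf.map (homOfLE (inf_le_left : V ⊓ U ≤ V)).op t) = 0 := by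
    refine eq_zero_of_off_support hI _ fun y hy hns => ?_
    have := congrArg (X.presheaf.germ W y hy).hom he
    rw [map_mul, map_zero] at this
    simp only [TopCat.Presheaf.germ_res_apply] at this ⊢
    exact mem_nonZeroDivisors_iff_right.mp (h y (i.le hy).2 hns) _ this
  have h2 := congrArg (X.presheaf.germ W x hxW).hom key
  rw [map_zero] at h2
  simp only [TopCat.Presheaf.germ_res_apply] at h2 ⊢
  exact h2

theorem not_mem_support_of_maximal {I : X.IdealSheafData} (hI : IsEffCartierIdeal I) {x : X}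
    (hmax : ∀ y : X, y ⤳ x → y = x) : x ∉ I.support := by
  obtain ⟨W, hxW, -, g, hg, hgI⟩ := exists_generator hI x ⊤ trivial
  exact (not_mem_support_iff hgI hxW).mpr (isUnit_germ_of_maximal W.2 hg hxW hmax)

/-- Criterion for the inverse image of an effective Cartier divisor to be one. -/
theorem isEffCartierIdeal_comap_of_nzd {I : Y.IdealSheafData} (hI : IsEffCartierIdeal I) (f : X ⟶ Y)
    (h : ∀ (W : Y.affineOpens) (g : Γ(Y, W.1)), IsNzdSec g → I.ideal W = Ideal.span {g} →
      ∀ (x : X) (hx : f x ∈ W.1),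
        f.stalkMap x (Y.presheaf.germ W.1 (f x) hx g) ∈ nonZeroDivisors (X.presheaf.stalk x)) :
    IsEffCartierIdeal (I.comap f) := by
  refine isEffCartierIdeal_of_local fun x => ?_
  obtain ⟨W, hxW, -, g, hg, hgI⟩ := exists_generator hI (f x) ⊤ trivial
  obtain ⟨V, hxV, hVW⟩ := exists_affine_le x (f ⁻¹ᵁ W.1) hxW
  refine ⟨V, hxV, f.appLE W.1 V.1 hVW g, fun y hy => ?_, ?_⟩
  · have := h W g hg hgI y (hVW hy)
    erw [Scheme.Hom.germ_stalkMap_apply] at this
    rw [Scheme.Hom.appLE, CommRingCat.comp_apply, TopCat.Presheaf.germ_res_apply]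
    exact this
  · rw [ideal_comap_affine I f W V hVW, hgI, Ideal.map_span, Set.image_singleton]

theorem mem_nonZeroDivisors_of_flat {R S : Type*} [CommRing R] [CommRing S] (φ : R →+* S)
    (hφ : φ.Flat) {r : R} (hr : r ∈ nonZeroDivisors R) : φ r ∈ nonZeroDivisors S := by
  algebraize [φ]
  have h2 : IsSMulRegular S r := Module.Flat.isSMulRegular_of_nonZeroDivisors hr
  rw [mem_nonZeroDivisors_iff_right]
  intro a ha
  apply h2
  simp only [Algebra.smul_def, mul_zero]
  rw [mul_comm]; exact ha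

theorem isEffCartierIdeal_comap_flat {I : Y.IdealSheafData} (hI : IsEffCartierIdeal I) (f : X ⟶ Y)
    [Flat f] : IsEffCartierIdeal (I.comap f) :=
  isEffCartierIdeal_comap_of_nzd hI f fun _ _ hg _ x hx =>
    mem_nonZeroDivisors_of_flat _ (Flat.stalkMap f x) (hg (f x) hx)

end Groth.Divisors
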