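/-
Formal consequences of the universal property of blowing up.
-/
import Groth.Agent.Divisors.EffCartier
import Mathlib.AlgebraicGeometry.Properties

universe u

open CategoryTheory CategoryTheory.Limits AlgebraicGeometry TopologicalSpace Opposite BlowUp

namespace Groth.Divisors

variable {X X' : Scheme.{u}}

/-- The open complement of the support of an ideal sheaf. -/
abbrev complOpens (I : X.IdealSheafData) : X.Opens := I.support.compl

theorem comap_compl_eq_top (I : X.IdealSheafData) : I.comap (complOpens I).ι = ⊤ := by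
  rw [← Scheme.IdealSheafData.support_eq_bot_iff, Scheme.IdealSheafData.support_comap]
  ext x
  simp only [TopologicalSpace.Closeds.coe_preimage, Set.mem_preimage,
    TopologicalSpace.Closeds.coe_bot, Set.mem_empty_iff_false, iff_false]
  exact x.2

theorem comap_eq_top_of_disjoint (I : X.IdealSheafData) (f : X' ⟶ X)
    (h : ∀ x, f x ∉ I.support) : I.comap f = ⊤ := by
  rw [← Scheme.IdealSheafData.support_eq_bot_iff, Scheme.IdealSheafData.support_comap]
  ext x
  simp only [TopologicalSpace.Closeds.coe_preimage, Set.mem_preimage,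
    TopologicalSpace.Closeds.coe_bot, Set.mem_empty_iff_false, iff_false]
  exact h x

variable {I : X.IdealSheafData} {b : X' ⟶ X}

theorem blowUp_hom_ext (hb : IsBlowUp b I) {Y : Scheme.{u}} {k₁ k₂ : Y ⟶ X'} (g : Y ⟶ X)
    (hg : IsEffCartierIdeal (I.comap g)) (h₁ : k₁ ≫ b = g) (h₂ : k₂ ≫ b = g) : k₁ = k₂ :=
  (hb.2 Y g hg).unique h₁ h₂

theorem isIso_morphismRestrict_compl (hb : IsBlowUp b I) : IsIso (b ∣_ complOpens I) := by
  set U := complOpens I with hU
  obtain ⟨σ, hσ, -⟩ := hb.2 (U : Scheme.{u}) U.ι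
    (by rw [hU, comap_compl_eq_top]; exact isEffCartierIdeal_top)
  have key : (b ∣_ U) ≫ σ = (b ⁻¹ᵁ U).ι := by
    refine blowUp_hom_ext hb ((b ⁻¹ᵁ U).ι ≫ b) ?_ ?_ rfl
    · rw [comap_eq_top_of_disjoint I ((b ⁻¹ᵁ U).ι ≫ b) (fun x => x.2)]
      exact isEffCartierIdeal_top
    · rw [Category.assoc, hσ, morphismRestrict_ι]
  have hrange : Set.range σ ⊆ Set.range (b ⁻¹ᵁ U).ι := by
    rintro _ ⟨x, rfl⟩
    rw [Scheme.Opens.range_ι]
    change b (σ x) ∈ U
    rw [← Scheme.Hom.comp_apply, hσ]
    exact x.2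
  refine ⟨IsOpenImmersion.lift (b ⁻¹ᵁ U).ι σ hrange, ?_, ?_⟩
  · rw [← cancel_mono (b ⁻¹ᵁ U).ι, Category.assoc, IsOpenImmersion.lift_fac, key, Category.id_comp]
  · rw [← cancel_mono U.ι, Category.assoc, morphismRestrict_ι, IsOpenImmersion.lift_fac_assoc, hσ,
      Category.id_comp]

theorem isIso_stalkMap_off (hb : IsBlowUp b I) (x : X') (hx : b x ∉ I.support) :
    IsIso (b.stalkMap x) := by
  have := isIso_morphismRestrict_compl hb
  have e : Arrow.mk (b.stalkMap x) ≅ Arrow.mk ((b ∣_ complOpens I).stalkMap ⟨x, hx⟩) :=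
    (morphismRestrictStalkMap b (complOpens I) ⟨x, hx⟩).symm
  exact ((MorphismProperty.isomorphisms CommRingCat).arrow_mk_iso_iff e).mpr
    (((isIso_iff_isIso_stalkMap (b ∣_ complOpens I)).mp this).2 _)

theorem not_mem_comap_support_iff (x : X') : x ∉ (I.comap b).support ↔ b x ∉ I.support := by
  rw [Scheme.IdealSheafData.support_comap]
  rfl

theorem isNzdSec_app (hb : IsBlowUp b I) {U : X.Opens} {s : Γ(X, U)} (hs : IsNzdSec s) :
    IsNzdSec (b.app U s) := by
  refine isNzdSec_of_off_support hb.1 _ fun x hx hns => ?_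
  have := isIso_stalkMap_off hb x ((not_mem_comap_support_iff x).mp hns)
  rw [← Scheme.Hom.germ_stalkMap_apply b U x hx]
  exact mem_nonZeroDivisors_of_flat (b.stalkMap x).hom
    (RingHom.Flat.of_bijective (ConcreteCategory.bijective_of_isIso _)) (hs (b x) hx)

theorem isEffCartierIdeal_comap_blowUp (hb : IsBlowUp b I) {J : X.IdealSheafData}
    (hJ : IsEffCartierIdeal J) : IsEffCartierIdeal (J.comap b) :=
  isEffCartierIdeal_comap_of_nzd hJ b fun W g hg _ x hx => by
    rw [Scheme.Hom.germ_stalkMap_apply b W.1 x hx]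
    exact isNzdSec_app hb hg x hx

theorem isBlowUp_flat_pullback {X₁ : Scheme.{u}} (g : X₁ ⟶ X) [Flat g] (hb : IsBlowUp b I) :
    IsBlowUp (pullback.fst g b) (I.comap g) := by
  refine ⟨?_, fun Y k hk => ?_⟩
  · rw [← Scheme.IdealSheafData.comap_comp, pullback.condition, Scheme.IdealSheafData.comap_comp]
    exact isEffCartierIdeal_comap_flat hb.1 _
  · rw [← Scheme.IdealSheafData.comap_comp] at hk
    obtain ⟨h, hh, hu⟩ := hb.2 Y (k ≫ g) hk
    refine ⟨pullback.lift k h hh.symm, pullback.lift_fst _ _ _, fun l hl => ?_⟩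
    apply pullback.hom_ext
    · rw [pullback.lift_fst, hl]
    · rw [pullback.lift_snd]
      exact hu _ (by change _ ≫ _ = _; rw [Category.assoc, ← pullback.condition, ← Category.assoc, hl])

theorem isReduced_blowUp [IsReduced X] (hb : IsBlowUp b I) : IsReduced X' := by
  refine ⟨fun U => ⟨fun s hs => ?_⟩⟩
  refine eq_zero_of_off_support hb.1 s fun x hx hns => ?_
  have := isIso_stalkMap_off hb x ((not_mem_comap_support_iff x).mp hns)
  have hred : _root_.IsReduced (X'.presheaf.stalk x) :=
    isReduced_of_injective (CategoryTheory.inv (b.stalkMap x)).hom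
      (ConcreteCategory.bijective_of_isIso _).1
  exact (hs.map (X'.presheaf.germ U x hx).hom).eq_zero

theorem maximalPoints_bijOn (hb : IsBlowUp b I) :
    Set.BijOn (fun x' => b x') {x' : X' | ∀ y : X', y ⤳ x' → y = x'}
      {x : X | (∀ y : X, y ⤳ x → y = x) ∧ x ∉ I.support} := by
  have := isIso_morphismRestrict_compl hb
  have hinj : ∀ x y : X', b x ∉ I.support → b x = b y → x = y := by
    intro x y hx hxy
    have hy : b y ∉ I.support := hxy ▸ hx
    have e := congrArg Subtype.val
      ((b ∣_ complOpens I).isOpenEmbedding.injective (a₁ := ⟨x, hx⟩) (a₂ := ⟨y, hy⟩)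
        (Subtype.ext (((morphismRestrict_base_coe b (complOpens I) ⟨x, hx⟩).trans hxy).trans
          (morphismRestrict_base_coe b (complOpens I) ⟨y, hy⟩).symm)))
    exact e
  have hoff : ∀ x' : X', (∀ y : X', y ⤳ x' → y = x') → b x' ∉ I.support := fun x' h =>
    (not_mem_comap_support_iff x').mp (not_mem_support_of_maximal hb.1 h)
  have hsurj : ∀ x : X, x ∉ I.support → ∃ x', b x' = x := fun x hx => by
    obtain ⟨x', hx'⟩ := (b ∣_ complOpens I).homeomorph.surjective ⟨x, hx⟩
    refine ⟨x'.1, ?_⟩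
    have := congrArg Subtype.val hx'
    exact (morphismRestrict_base_coe b (complOpens I) x').symm.trans this
  refine ⟨fun x' h => ⟨fun y hy => ?_, hoff x' h⟩, fun x hx y _ hxy => hinj x y (hoff x hx) hxy, ?_⟩
  · have hyU : y ∉ I.support := fun hys =>
      hoff x' h (hy.mem_closed I.support.isClosed hys)
    obtain ⟨y', rfl⟩ := hsurj y hyU
    have hsp : (⟨y', hyU⟩ : (b ⁻¹ᵁ complOpens I : Scheme.{u})) ⤳ ⟨x', hoff x' h⟩ := by
      refine (b ∣_ complOpens I).isOpenEmbedding.isInducing.specializes_iff.mp ?_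
      refine (subtype_specializes_iff _ _).mpr ?_
      exact ((morphismRestrict_base_coe b (complOpens I) ⟨y', hyU⟩).symm ▸
        (morphismRestrict_base_coe b (complOpens I) ⟨x', hoff x' h⟩).symm ▸ hy)
    have := h y' (hsp.map continuous_subtype_val)
    simp only [this]
  · rintro x ⟨hx, hns⟩
    obtain ⟨x', rfl⟩ := hsurj x hns
    refine ⟨x', fun y hy => ?_, rfl⟩
    have e := hx (b y) (hy.map b.continuous)
    exact (hinj x' y hns e.symm).symm

end Groth.Divisors
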