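/-
Factors of effective Cartier divisors; the complement of a locally principal closed subscheme.
-/
import Groth.Agent.Divisors.BlowUpBasic
import Groth.Prelude.Def_CurvBase
import Mathlib.AlgebraicGeometry.Morphisms.SchemeTheoreticallyDominant

universe u

open CategoryTheory AlgebraicGeometry TopologicalSpace Opposite BlowUp

namespace Groth.Divisors

variable {X : Scheme.{u}}

theorem exists_split_of_mul_eq_span {A : Type*} [CommRing A] (p : Ideal A) [p.IsPrime]
    {I J : Ideal A} {f : A} (h : I * J = Ideal.span {f}) (hf : f ∈ nonZeroDivisors A) :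
    ∃ a ∈ I, ∃ b ∈ J, ∃ r : A, a * b = f * r ∧ r ∉ p := by
  by_contra hne
  simp only [not_exists, not_and, not_not] at hne
  have key : I * J ≤ Ideal.span {f} * p := Ideal.mul_le.mpr fun a ha b hb => by
    have hab : a * b ∈ Ideal.span {f} := h ▸ Ideal.mul_mem_mul ha hb
    obtain ⟨r, hr⟩ := Ideal.mem_span_singleton'.mp hab
    rw [← hr, mul_comm r f]
    exact Ideal.mul_mem_mul (Ideal.mem_span_singleton_self f)
      (hne a ha b hb r (by rw [← hr, mul_comm]))
  obtain ⟨c, hc, hcf⟩ :=
    Ideal.mem_span_singleton_mul.mp (key (h ▸ Ideal.mem_span_singleton_self f))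
  have : c = 1 := by
    have h0 : (c - 1) * f = 0 := by rw [sub_mul, one_mul, mul_comm, hcf, sub_self]
    exact sub_eq_zero.mp (mem_nonZeroDivisors_iff_right.mp hf _ h0)
  exact Ideal.IsPrime.ne_top' ((Ideal.eq_top_iff_one _).mpr (this ▸ hc))

theorem isEffCartierIdeal_left_of_mul {I J : X.IdealSheafData} (h : IsEffCartierIdeal (I * J)) :
    IsEffCartierIdeal I := by
  refine isEffCartierIdeal_of_local fun x => ?_
  obtain ⟨W, hxW, -, f, hf, hIJ⟩ := exists_generator h x ⊤ trivial
  simp only [Scheme.IdealSheafData.ideal_mul, Pi.mul_apply] at hIJ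
  obtain ⟨a, ha, b, hb, r, hab, hr⟩ :=
    exists_split_of_mul_eq_span (W.2.primeIdealOf ⟨x, hxW⟩).asIdeal hIJ hf.mem_nonZeroDivisors
  have hxr : x ∈ X.basicOpen r := by
    rw [X.mem_basicOpen r x hxW]
    let _ := TopCat.Presheaf.algebra_section_stalk X.presheaf ⟨x, hxW⟩
    have := W.2.isLocalization_stalk ⟨x, hxW⟩
    exact IsLocalization.map_units (X.presheaf.stalk x)
      (⟨r, hr⟩ : (W.2.primeIdealOf ⟨x, hxW⟩).asIdeal.primeCompl)
  let W' : X.affineOpens := X.affineBasicOpen r
  have hle : W'.1 ≤ W.1 := X.basicOpen_le r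
  let res := (X.presheaf.map (homOfLE hle).op).hom
  have hru : IsUnit (res r) := X.toRingedSpace.isUnit_res_basicOpen r
  have hab' : res a * res b = res f * res r := by rw [← map_mul, hab, map_mul]
  have hfr : IsNzdSec (res f) := hf.res hle
  have habn : IsNzdSec (res a * res b) := by
    rw [hab']
    refine hfr.mul fun y hy => ?_
    exact (hru.map _).mem_nonZeroDivisors
  have hIJ' : I.ideal W' * J.ideal W' = Ideal.span {res f} := by
    rw [← I.map_ideal (U := W') (V := W) hle, ← J.map_ideal (U := W') (V := W) hle,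
      ← Ideal.map_mul, hIJ, Ideal.map_span, Set.image_singleton]
    rfl
  have hbI : res b ∈ J.ideal W' := by
    rw [← J.map_ideal (U := W') (V := W) hle]; exact Ideal.mem_map_of_mem _ hb
  have haI : res a ∈ I.ideal W' := by
    rw [← I.map_ideal (U := W') (V := W) hle]; exact Ideal.mem_map_of_mem _ ha
  refine ⟨W', hxr, res a, fun y hy => ?_, le_antisymm ?_ ?_⟩
  · have := habn y hy
    rw [map_mul] at this
    exact (mul_mem_nonZeroDivisors.mp this).1
  · intro c hc
    have : c * res b ∈ Ideal.span {res f} := hIJ' ▸ Ideal.mul_mem_mul hc hbI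
    obtain ⟨t, ht⟩ := Ideal.mem_span_singleton'.mp this
    refine Ideal.mem_span_singleton'.mpr ⟨t * ↑hru.unit⁻¹, ?_⟩
    have hb' : res b ∈ nonZeroDivisors Γ(X, W'.1) :=
      (mul_mem_nonZeroDivisors.mp habn.mem_nonZeroDivisors).2
    have key : t * ↑hru.unit⁻¹ * res a * res b = c * res b := by
      calc t * ↑hru.unit⁻¹ * res a * res b = t * ↑hru.unit⁻¹ * (res a * res b) := mul_assoc _ _ _
        _ = t * res f * (res r * ↑hru.unit⁻¹) := by rw [hab']; ring
        _ = c * res b := by rw [hru.mul_val_inv, mul_one, ht]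
    have h0 : (t * ↑hru.unit⁻¹ * res a - c) * res b = 0 := by rw [sub_mul, key, sub_self]
    exact sub_eq_zero.mp (mem_nonZeroDivisors_iff_right.mp hb' _ h0)
  · rw [Ideal.span_singleton_le_iff_mem]; exact haI

theorem isEffCartierIdeal_factors {I J : X.IdealSheafData} (h : IsEffCartierIdeal (I * J)) :
    IsEffCartierIdeal I ∧ IsEffCartierIdeal J :=
  ⟨isEffCartierIdeal_left_of_mul h, isEffCartierIdeal_left_of_mul (mul_comm I J ▸ h)⟩

theorem isLocPrincipal_of_isEffCartier {I : X.IdealSheafData} (h : IsEffCartierIdeal I) :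
    Curv2.IsLocPrincipal I := fun x _ => by
  obtain ⟨W, hx, g, -, hg⟩ := h x
  exact ⟨W, hx, g, hg⟩

theorem isAffineHom_compl {I : X.IdealSheafData} (h : Curv2.IsLocPrincipal I) :
    IsAffineHom (complOpens I).ι := by
  refine isAffineHom_of_forall_exists_isAffineOpen _ fun x => ?_
  by_cases hx : x ∈ I.support
  · obtain ⟨W, hxW, g, hg⟩ := h x hx
    refine ⟨W.1, hxW, W.2, ?_⟩
    rw [← (complOpens I).ι.isAffineOpen_iff_of_isOpenImmersion,
      Scheme.Hom.image_preimage_eq_opensRange_inf, Scheme.Opens.opensRange_ι]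
    have : complOpens I ⊓ W.1 = X.basicOpen g := by
      ext y
      constructor
      · rintro ⟨hy, hyW⟩
        exact (X.mem_basicOpen g y hyW).mpr ((not_mem_support_iff hg hyW).mp hy)
      · intro hy
        have hyW := X.basicOpen_le g hy
        exact ⟨(not_mem_support_iff hg hyW).mpr ((X.mem_basicOpen g y hyW).mp hy), hyW⟩
    rw [this]
    exact W.2.basicOpen g
  · obtain ⟨W, hxW, hW⟩ := exists_affine_le x (complOpens I) hx
    refine ⟨W.1, hxW, W.2, ?_⟩
    rw [← (complOpens I).ι.isAffineOpen_iff_of_isOpenImmersion,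
      Scheme.Hom.image_preimage_eq_opensRange_inf, Scheme.Opens.opensRange_ι, inf_eq_right.mpr hW]
    exact W.2

theorem compl_dominant {I : X.IdealSheafData} (h : IsEffCartierIdeal I) :
    IsSchemeTheoreticallyDominant (complOpens I).ι := by
  have := isAffineHom_compl (isLocPrincipal_of_isEffCartier h)
  refine ⟨?_⟩
  ext U : 2
  rw [Scheme.Hom.ker_apply, Scheme.IdealSheafData.ideal_bot, Pi.bot_apply, eq_bot_iff]
  intro s hs
  rw [RingHom.mem_ker] at hs
  refine Ideal.mem_bot.mpr (eq_zero_of_off_support h s fun x hx hns => ?_)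
  have h2 := congrArg (((complOpens I : X.Opens) : Scheme.{u}).presheaf.germ
    ((complOpens I).ι ⁻¹ᵁ U.1) ⟨x, hns⟩ hx).hom hs
  rw [map_zero] at h2
  erw [← Scheme.Hom.germ_stalkMap_apply] at h2
  have hiso : IsIso ((complOpens I).ι.stalkMap (⟨x, hns⟩ : (complOpens I : Scheme.{u}))) :=
    (IsOpenImmersion.iff_isIso_stalkMap.mp inferInstance).2 _
  exact (ConcreteCategory.bijective_of_isIso ((complOpens I).ι.stalkMap
    (⟨x, hns⟩ : (complOpens I : Scheme.{u})))).1
    (h2.trans (map_zero _).symm)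

theorem isEffCartierIdeal_comap_reduced {Y : Scheme.{u}} [IsReduced X] (f : X ⟶ Y)
    {I : Y.IdealSheafData} (hI : IsEffCartierIdeal I)
    (h : ∀ ξ : X, (∀ y : X, y ⤳ ξ → y = ξ) → f ξ ∉ I.support) :
    IsEffCartierIdeal (I.comap f) := by
  refine isEffCartierIdeal_comap_of_nzd hI f fun W g _ hgI x hx => ?_
  obtain ⟨V, hxV, hVW⟩ := exists_affine_le x (f ⁻¹ᵁ W.1) hx
  have hVa : IsAffineOpen V.1 := V.2
  have key : IsNzdSec (f.appLE W.1 V.1 hVW g) := by
    refine isNzdSec_of_mem hVa ?_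
    rw [mem_nonZeroDivisors_iff_right]
    intro t ht
    have : IsReduced Γ(X, V.1) := inferInstance
    refine IsNilpotent.eq_zero ?_
    rw [← mem_nilradical, nilradical_eq_sInf]
    refine Submodule.mem_sInf.mpr fun P hP => ?_
    have hPp : Ideal.IsPrime P := hP
    obtain ⟨Q, hQ, hQP⟩ := Ideal.exists_minimalPrimes_le (I := ⊥) (J := P) bot_le
    refine hQP ?_
    let q : PrimeSpectrum Γ(X, V.1) := ⟨Q, hQ.1.1⟩
    set ξ := hVa.fromSpec q with hξ
    have hξV : ξ ∈ V.1 := by
      rw [← hVa.opensRange_fromSpec]; exact ⟨q, rfl⟩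
    have hmax : ∀ y : X, y ⤳ ξ → y = ξ := by
      intro y hy
      have hyV : y ∈ V.1 := hy.mem_open V.1.2 hξV
      have hsp : hVa.primeIdealOf ⟨y, hyV⟩ ⤳ q := by
        refine hVa.fromSpec.isOpenEmbedding.isInducing.specializes_iff.mp ?_
        rw [hVa.fromSpec_primeIdealOf]; exact hy
      have hle := (PrimeSpectrum.le_iff_specializes _ _).mpr hsp
      have e : hVa.primeIdealOf ⟨y, hyV⟩ = q :=
        PrimeSpectrum.ext (le_antisymm hle (hQ.2 ⟨(hVa.primeIdealOf ⟨y, hyV⟩).2, bot_le⟩ hle))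
      exact (hVa.fromSpec_primeIdealOf ⟨y, hyV⟩).symm.trans (by rw [e])
    have hu := (not_mem_support_iff hgI (hVW hξV)).mp (h ξ hmax)
    have hu' : IsUnit (X.presheaf.germ V.1 ξ hξV (f.appLE W.1 V.1 hVW g)) := by
      have := hu.map (f.stalkMap ξ).hom
      erw [Scheme.Hom.germ_stalkMap_apply] at this
      rw [Scheme.Hom.appLE, CommRingCat.comp_apply, TopCat.Presheaf.germ_res_apply]
      exact this
    have hnot : f.appLE W.1 V.1 hVW g ∉ Q := by
      intro hmem
      let _ := TopCat.Presheaf.algebra_section_stalk X.presheaf ⟨ξ, hξV⟩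
      have := hVa.isLocalization_stalk ⟨ξ, hξV⟩
      have e : hVa.primeIdealOf ⟨ξ, hξV⟩ = q := by
        apply hVa.fromSpec.isOpenEmbedding.injective
        exact hVa.fromSpec_primeIdealOf ⟨ξ, hξV⟩
      have := (IsLocalization.AtPrime.isUnit_to_map_iff (X.presheaf.stalk ξ)
        (hVa.primeIdealOf ⟨ξ, hξV⟩).asIdeal (f.appLE W.1 V.1 hVW g)).mp hu'
      rw [e] at this
      exact this hmem
    have : t * f.appLE W.1 V.1 hVW g ∈ Q := ht ▸ Q.zero_mem
    exact (hQ.1.1.mem_or_mem this).resolve_right hnot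
  have := key x hxV
  rw [Scheme.Hom.appLE, CommRingCat.comp_apply, TopCat.Presheaf.germ_res_apply] at this
  erw [Scheme.Hom.germ_stalkMap_apply]
  exact this

end Groth.Divisors
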