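/-
Sections of a quasi-coherent module over an affine open: localization at basic opens and at points.
-/
import Groth.Prelude.Def_FlatMod2
import Groth.Prelude.Def_Coh
import Mathlib.AlgebraicGeometry.Modules.Tilde

universe u

open CategoryTheory AlgebraicGeometry TopologicalSpace Opposite

namespace Groth.Divisors

variable {X : Scheme.{u}}

theorem res_res_mod (F : X.Modules) {U V W : X.Opens} (h₁ : V ≤ U) (h₂ : W ≤ V) (s : Γ(F, U)) :
    F.presheaf.map (homOfLE h₂).op (F.presheaf.map (homOfLE h₁).op s) =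
      F.presheaf.map (homOfLE (h₂.trans h₁)).op s := by
  rw [← ConcreteCategory.comp_apply, ← Functor.map_comp]
  rfl

theorem res_res_ring {U V W : X.Opens} (h₁ : V ≤ U) (h₂ : W ≤ V) (s : Γ(X, U)) :
    X.presheaf.map (homOfLE h₂).op (X.presheaf.map (homOfLE h₁).op s) =
      X.presheaf.map (homOfLE (h₂.trans h₁)).op s := by
  rw [← ConcreteCategory.comp_apply, ← Functor.map_comp]
  rfl

section FromSpec

variable {U : X.Opens} (hU : IsAffineOpen U) (F : X.Modules)

theorem fromSpec_image_le (V : (Spec Γ(X, U)).Opens) : hU.fromSpec ''ᵁ V ≤ U := by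
  conv_rhs => rw [← hU.opensRange_fromSpec]
  rw [← Scheme.Hom.image_top_eq_opensRange]
  exact hU.fromSpec.image_mono le_top

/-- The sections of `F.restrict fromSpec` as sections of `F`. -/
noncomputable def specSec (V : (Spec Γ(X, U)).Opens) :
    Γ(F.restrict hU.fromSpec, V) ≅ Γ(F, hU.fromSpec ''ᵁ V) :=
  F.restrictAppIso hU.fromSpec V

theorem specSec_smul (V : (Spec Γ(X, U)).Opens) (r : Γ(X, U)) (x : Γ(F.restrict hU.fromSpec, V)) :
    (specSec hU F V).hom (r • x) =
      X.presheaf.map (homOfLE (fromSpec_image_le hU V)).op r • (specSec hU F V).hom x := by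
  rw [Scheme.Modules.smul_Spec_def]
  refine (Scheme.Modules.smul_restrictAppIso_hom_apply hU.fromSpec F V _ x).trans ?_
  congr 1
  have hle : V ≤ hU.fromSpec ⁻¹ᵁ U := by rw [hU.fromSpec_preimage_self]; exact le_top
  have e : (Scheme.ΓSpecIso Γ(X, U)).inv ≫ (Spec Γ(X, U)).presheaf.map V.leTop.op =
      hU.fromSpec.appLE U V hle := by
    rw [Scheme.Hom.appLE, hU.fromSpec_app_self, Category.assoc, ← Functor.map_comp]
    rfl
  rw [← ConcreteCategory.comp_apply, ← ConcreteCategory.comp_apply, ← Category.assoc, e,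
    Scheme.Hom.appLE_appIso_inv]

theorem specSec_map (V W : (Spec Γ(X, U)).Opens) (h : W ≤ V) (x : Γ(F.restrict hU.fromSpec, V)) :
    (specSec hU F W).hom ((F.restrict hU.fromSpec).presheaf.map (homOfLE h).op x) =
      F.presheaf.map (homOfLE (hU.fromSpec.image_mono h)).op ((specSec hU F V).hom x) := rfl

theorem top_le_image : U ≤ hU.fromSpec ''ᵁ ⊤ := by
  rw [Scheme.Hom.image_top_eq_opensRange, hU.opensRange_fromSpec]

theorem res_self (s : Γ(F, U)) (h₁ : hU.fromSpec ''ᵁ ⊤ ≤ U) (h₂ : U ≤ hU.fromSpec ''ᵁ ⊤) :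
    F.presheaf.map (homOfLE h₂).op (F.presheaf.map (homOfLE h₁).op s) = s := by
  rw [res_res_mod]
  have : (homOfLE (h₂.trans h₁)) = 𝟙 U := Subsingleton.elim _ _
  rw [this, op_id, F.presheaf.map_id]
  rfl

variable {F} (hF : Coh.IsQCoh F)

include hU hF

theorem isLocalizing_specRestrict (f : Γ(X, U)) (D : (Spec Γ(X, U)).Opens)
    (hD : D = PrimeSpectrum.basicOpen f) :
    IsLocalizedModule (Submonoid.powers f)
      ((modulesSpecToSheaf.obj (F.restrict hU.fromSpec)).obj.map D.leTop.op).hom := by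
  subst hD
  have : F.IsQuasicoherent := hF
  exact (isIso_fromTildeΓ_iff_isLocalizing (F.restrict hU.fromSpec)).mp inferInstance f

theorem exists_pow_smul_eq_zero (f : Γ(X, U)) (s : Γ(F, U))
    (hs : F.presheaf.map (homOfLE (X.basicOpen_le f)).op s = 0) : ∃ n : ℕ, f ^ n • s = 0 := by
  obtain ⟨D, hD⟩ : ∃ D : (Spec Γ(X, U)).Opens, D = PrimeSpectrum.basicOpen f := ⟨_, rfl⟩
  have e : hU.fromSpec ''ᵁ D ≤ X.basicOpen f := by
    rw [hD]; exact (hU.fromSpec_image_basicOpen f).le
  have hloc := isLocalizing_specRestrict hU hF f D hD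
  let s' : Γ(F.restrict hU.fromSpec, ⊤) :=
    (specSec hU F ⊤).inv (F.presheaf.map (homOfLE (fromSpec_image_le hU ⊤)).op s)
  have h0 : (F.restrict hU.fromSpec).presheaf.map (homOfLE (le_top : D ≤ ⊤)).op s' = 0 := by
    apply (ConcreteCategory.bijective_of_isIso (specSec hU F D).hom).1
    rw [map_zero, specSec_map]
    simp only [s', Iso.inv_hom_id_apply]
    rw [res_res_mod]
    rw [← res_res_mod F (X.basicOpen_le f) e, hs, map_zero]
  obtain ⟨⟨_, n, rfl⟩, hn⟩ := (IsLocalizedModule.eq_zero_iff (Submonoid.powers f) _).mp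
    (show ((modulesSpecToSheaf.obj (F.restrict hU.fromSpec)).obj.map D.leTop.op).hom s' = 0 from h0)
  refine ⟨n, ?_⟩
  have h1 : (specSec hU F ⊤).hom (f ^ n • s') = 0 := by
    have : (f ^ n • s' : Γ(F.restrict hU.fromSpec, ⊤)) = 0 := hn
    rw [this, map_zero]
  rw [specSec_smul] at h1
  simp only [s', Iso.inv_hom_id_apply, ← Scheme.Modules.map_smul] at h1
  rw [← res_self hU F (f ^ n • s) (fromSpec_image_le hU ⊤) (top_le_image hU), h1, map_zero]

theorem exists_pow_smul_eq_res (f : Γ(X, U)) (t : Γ(F, X.basicOpen f)) :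
    ∃ (n : ℕ) (s : Γ(F, U)), F.presheaf.map (homOfLE (X.basicOpen_le f)).op s =
      X.presheaf.map (homOfLE (X.basicOpen_le f)).op f ^ n • t := by
  obtain ⟨D, hD⟩ : ∃ D : (Spec Γ(X, U)).Opens, D = PrimeSpectrum.basicOpen f := ⟨_, rfl⟩
  have e : hU.fromSpec ''ᵁ D = X.basicOpen f := by
    rw [hD]; exact hU.fromSpec_image_basicOpen f
  have hloc := isLocalizing_specRestrict hU hF f D hD
  let t' : Γ(F.restrict hU.fromSpec, D) :=
    (specSec hU F D).inv (F.presheaf.map (homOfLE e.le).op t)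
  obtain ⟨⟨s', ⟨_, n, rfl⟩⟩, hn⟩ := IsLocalizedModule.surj (Submonoid.powers f)
    ((modulesSpecToSheaf.obj (F.restrict hU.fromSpec)).obj.map D.leTop.op).hom t'
  obtain ⟨s'', hn'⟩ : ∃ z : Γ(F.restrict hU.fromSpec, ⊤),
      (f ^ n • t' : Γ(F.restrict hU.fromSpec, D)) =
        (F.restrict hU.fromSpec).presheaf.map (homOfLE (le_top : D ≤ ⊤)).op z := ⟨s', hn⟩
  refine ⟨n, F.presheaf.map (homOfLE (top_le_image hU)).op ((specSec hU F ⊤).hom s''), ?_⟩
  have h2 := congrArg (fun z => F.presheaf.map (homOfLE e.ge).op ((specSec hU F D).hom z)) hn'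
  simp only [specSec_map, specSec_smul, t', Iso.inv_hom_id_apply, res_res_mod,
    Scheme.Modules.map_smul, res_res_ring] at h2
  rw [res_res_mod, ← h2, map_pow]
  congr 1
  have : (homOfLE (le_refl (X.basicOpen f))) = 𝟙 _ := Subsingleton.elim _ _
  rw [this, op_id, F.presheaf.map_id]
  rfl

end FromSpec

section Stalk

variable {U : X.Opens} (hU : IsAffineOpen U) {x : X} (hx : x ∈ U)

include hU in
theorem isUnit_germ_iff (r : Γ(X, U)) :
    IsUnit (X.presheaf.germ U x hx r) ↔ r ∉ (hU.primeIdealOf ⟨x, hx⟩).asIdeal := by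
  let _ := TopCat.Presheaf.algebra_section_stalk X.presheaf ⟨x, hx⟩
  have := hU.isLocalization_stalk ⟨x, hx⟩
  exact IsLocalization.AtPrime.isUnit_to_map_iff (X.presheaf.stalk x)
    (hU.primeIdealOf ⟨x, hx⟩).asIdeal r

include hU in
theorem exists_germ_mul_eq (a : X.presheaf.stalk x) :
    ∃ r c : Γ(X, U), IsUnit (X.presheaf.germ U x hx c) ∧
      a * X.presheaf.germ U x hx c = X.presheaf.germ U x hx r := by
  let _ := TopCat.Presheaf.algebra_section_stalk X.presheaf ⟨x, hx⟩
  have := hU.isLocalization_stalk ⟨x, hx⟩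
  obtain ⟨⟨r, c⟩, h⟩ := IsLocalization.surj (hU.primeIdealOf ⟨x, hx⟩).asIdeal.primeCompl a
  exact ⟨r, c, IsLocalization.map_units (X.presheaf.stalk x) c, h⟩

theorem germ_smul_mod (F : X.Modules) (r : Γ(X, U)) (s : Γ(F, U)) :
    F.presheaf.germ U x hx (r • s) = X.presheaf.germ U x hx r • F.presheaf.germ U x hx s :=
  PresheafOfModules.germ_smul (R := X.presheaf)
    (show PresheafOfModules (X.presheaf ⋙ forget₂ CommRingCat RingCat) from F.val) x U hx r s

variable {F : X.Modules} (hF : Coh.IsQCoh F)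

include hU hF in
theorem germ_eq_zero_iff (s : Γ(F, U)) :
    F.presheaf.germ U x hx s = 0 ↔
      ∃ c : Γ(X, U), IsUnit (X.presheaf.germ U x hx c) ∧ c • s = 0 := by
  constructor
  · intro h
    rw [← map_zero (F.presheaf.germ U x hx).hom] at h
    obtain ⟨W, hxW, i₁, i₂, he⟩ := F.presheaf.germ_eq x _ _ _ _ h
    rw [map_zero] at he
    obtain ⟨f, hfW, hxf⟩ := hU.exists_basicOpen_le (V := W) ⟨x, hxW⟩ hx
    have h0 : F.presheaf.map (homOfLE (X.basicOpen_le f)).op s = 0 := by
      rw [← res_res_mod F i₁.le hfW]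
      erw [he]
      rw [map_zero]
    obtain ⟨n, hn⟩ := exists_pow_smul_eq_zero hU hF f s h0
    refine ⟨f ^ n, ?_, hn⟩
    rw [map_pow]
    exact ((X.mem_basicOpen f x hx).mp hxf).pow n
  · rintro ⟨c, hc, h0⟩
    have := congrArg (F.presheaf.germ U x hx).hom h0
    rw [map_zero, germ_smul_mod] at this
    exact hc.smul_eq_zero.mp this

include hU hF in
theorem exists_smul_eq_germ (z : F.presheaf.stalk x) :
    ∃ (c : Γ(X, U)) (s : Γ(F, U)), IsUnit (X.presheaf.germ U x hx c) ∧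
      X.presheaf.germ U x hx c • z = F.presheaf.germ U x hx s := by
  obtain ⟨V, hxV, t, rfl⟩ := TopCat.Presheaf.exists_germ_eq F.presheaf z
  obtain ⟨f, hfV, hxf⟩ := hU.exists_basicOpen_le (V := V) ⟨x, hxV⟩ hx
  obtain ⟨n, s, hs⟩ := exists_pow_smul_eq_res hU hF f (F.presheaf.map (homOfLE hfV).op t)
  refine ⟨f ^ n, s, by rw [map_pow]; exact ((X.mem_basicOpen f x hx).mp hxf).pow n, ?_⟩
  have := congrArg (F.presheaf.germ (X.basicOpen f) x hxf).hom hs
  rw [TopCat.Presheaf.germ_res_apply, germ_smul_mod, TopCat.Presheaf.germ_res_apply,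
    map_pow, TopCat.Presheaf.germ_res_apply] at this
  rw [this, map_pow]

end Stalk

end Groth.Divisors
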