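/-
Weakly associated points of quasi-coherent modules.
-/
import Groth.Agent.Divisors.QCohLoc
import Groth.Agent.Divisors.IdealComap
import Groth.Agent.Calg5.WeakAss
import Groth.Prelude.Def_CurvBase
import Groth.Prelude.Def_CohB1

universe u

open CategoryTheory AlgebraicGeometry TopologicalSpace Opposite

namespace Groth.Divisors

variable {X : Scheme.{u}} {F : X.Modules}

/-- `z` has annihilator with radical the maximal ideal of the local ring. -/
def IsWAGerm {x : X} (z : F.presheaf.stalk x) : Prop :=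
  (∀ a : X.presheaf.stalk x, a • z = 0 → ¬ IsUnit a) ∧
    ∀ a : X.presheaf.stalk x, ¬ IsUnit a → ∃ n : ℕ, a ^ n • z = 0

theorem isWeakAssPoint_iff {x : X} :
    Curv2.IsWeakAssPoint F x ↔ ∃ z : F.presheaf.stalk x, IsWAGerm z := by
  refine exists_congr fun z => ⟨fun h => ⟨fun a ha hu => ?_, fun a ha => ?_⟩, fun h => ?_⟩
  · have : a ∈ IsLocalRing.maximalIdeal (X.presheaf.stalk x) := by
      rw [← h]; exact Ideal.le_radical (by simpa [LinearMap.mem_ker] using ha)
    exact this hu
  · have : a ∈ IsLocalRing.maximalIdeal (X.presheaf.stalk x) := ha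
    rw [← h] at this
    obtain ⟨n, hn⟩ := this
    exact ⟨n, by simpa [LinearMap.mem_ker] using hn⟩
  · refine le_antisymm ?_ fun a ha => ?_
    · rintro a ⟨n, hn⟩ hu
      exact h.1 (a ^ n) (by simpa [LinearMap.mem_ker] using hn) (hu.pow n)
    · obtain ⟨n, hn⟩ := h.2 a ha
      exact ⟨n, by simpa [LinearMap.mem_ker] using hn⟩

theorem ker_toSpanSingleton_eq_colon {R M : Type*} [CommRing R] [AddCommGroup M] [Module R M]
    (m : M) : LinearMap.ker (LinearMap.toSpanSingleton R M m) = (⊥ : Submodule R M).colon {m} := by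
  ext a
  simp [Submodule.mem_colon_singleton]

/-- Associated points (radical of an annihilator) are the same as weakly associated points. -/
theorem isAssPoint_iff_weak {x : X} : Curv2.IsAssPoint F x ↔ Curv2.IsWeakAssPoint F x := by
  constructor
  · rintro ⟨-, z, hz⟩
    exact ⟨z, by rw [ker_toSpanSingleton_eq_colon]; exact hz.symm⟩
  · rintro ⟨z, hz⟩
    exact ⟨inferInstance, z, by rw [← ker_toSpanSingleton_eq_colon]; exact hz.symm⟩

variable (hF : Coh.IsQCoh F)

include hF in
/-- Weakly associated points are the weakly associated primes of the sections on affine opens. -/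
theorem isWeakAssPoint_iff_weakAss {U : X.Opens} (hU : IsAffineOpen U) {x : X} (hx : x ∈ U) :
    Curv2.IsWeakAssPoint F x ↔
      (hU.primeIdealOf ⟨x, hx⟩).asIdeal ∈ FlatCA.weakAss Γ(X, U) Γ(F, U) := by
  rw [isWeakAssPoint_iff, Calg5.mem_weakAss_iff]
  constructor
  · rintro ⟨z, h1, h2⟩
    obtain ⟨c, s, hc, hcs⟩ := exists_smul_eq_germ hU hx hF z
    refine ⟨inferInstance, s, fun r hr => ?_, fun a ha => ?_⟩
    · by_contra hrp
      have := congrArg (F.presheaf.germ U x hx).hom hr
      rw [map_zero, germ_smul_mod, ← hcs, smul_smul] at this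
      exact h1 _ this (((isUnit_germ_iff hU hx r).mpr hrp).mul hc)
    · obtain ⟨n, hn⟩ := h2 _ (fun hu => (isUnit_germ_iff hU hx a).mp hu ha)
      have : F.presheaf.germ U x hx (a ^ n • s) = 0 := by
        rw [germ_smul_mod, ← hcs, map_pow, smul_comm, hn, smul_zero]
      obtain ⟨e, he, he0⟩ := (germ_eq_zero_iff hU hx hF _).mp this
      exact ⟨e, (isUnit_germ_iff hU hx e).mp he, n, by rw [mul_smul]; exact he0⟩
  · rintro ⟨hp, s, h1, h2⟩
    refine ⟨F.presheaf.germ U x hx s, fun a ha hu => ?_, fun a ha => ?_⟩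
    · obtain ⟨e, he, he0⟩ := (germ_eq_zero_iff hU hx hF s).mp (hu.smul_eq_zero.mp ha)
      exact (isUnit_germ_iff hU hx e).mp he (h1 e he0)
    · obtain ⟨r, c, hc, hac⟩ := exists_germ_mul_eq hU hx a
      have hr : r ∈ (hU.primeIdealOf ⟨x, hx⟩).asIdeal := by
        by_contra hrp
        have : IsUnit (a * X.presheaf.germ U x hx c) := hac ▸ (isUnit_germ_iff hU hx r).mpr hrp
        exact ha (isUnit_of_mul_isUnit_left this)
      obtain ⟨e, he, n, hn⟩ := h2 r hr
      refine ⟨n, ?_⟩
      have := congrArg (F.presheaf.germ U x hx).hom hn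
      rw [map_zero, germ_smul_mod, map_mul, map_pow, ← hac, mul_pow,
        show ∀ p q w : X.presheaf.stalk x, p * (q * w) = (p * w) * q from fun _ _ _ => by ring,
        mul_smul] at this
      exact (IsUnit.smul_eq_zero (((isUnit_germ_iff hU hx e).mpr he).mul (hc.pow n))).mp this

include hF in
/-- A nonzero germ generalizes to a weakly associated point where the germ is still nonzero. -/
theorem exists_weakAss_germ_ne_zero {W : X.Opens} (s : Γ(F, W)) {y : X} (hy : y ∈ W)
    (hs : F.presheaf.germ W y hy s ≠ 0) :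
    ∃ (x : X) (hx : x ∈ W), x ⤳ y ∧ Curv2.IsWeakAssPoint F x ∧
      F.presheaf.germ W x hx s ≠ 0 := by
  obtain ⟨⟨U, hU'⟩, hyU, hUW⟩ := exists_affine_le y W hy
  dsimp only at hyU hUW
  have hU : IsAffineOpen U := hU'
  clear hU'
  set t := F.presheaf.map (homOfLE hUW).op s with ht
  have hty : F.presheaf.germ U y hyU t ≠ 0 := by
    rw [ht, TopCat.Presheaf.germ_res_apply]; exact hs
  have hle : (Submodule.span Γ(X, U) {t}).annihilator ≤ (hU.primeIdealOf ⟨y, hyU⟩).asIdeal := by
    intro r hr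
    by_contra hrp
    exact hty ((germ_eq_zero_iff hU hyU hF t).mpr
      ⟨r, (isUnit_germ_iff hU hyU r).mpr hrp, Calg5.mem_ann.mp hr⟩)
  obtain ⟨p, hp, hpy⟩ := Ideal.exists_minimalPrimes_le hle
  let q : PrimeSpectrum Γ(X, U) := ⟨p, hp.1.1⟩
  have hxU : hU.fromSpec q ∈ U := by
    have h' : hU.fromSpec q ∈ hU.fromSpec.opensRange := ⟨q, rfl⟩
    exact hU.opensRange_fromSpec.le h'
  have e : hU.primeIdealOf ⟨hU.fromSpec q, hxU⟩ = q := by
    apply hU.fromSpec.isOpenEmbedding.injective
    exact hU.fromSpec_primeIdealOf ⟨_, hxU⟩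
  refine ⟨hU.fromSpec q, hUW hxU, ?_, ?_, ?_⟩
  · have := ((PrimeSpectrum.le_iff_specializes q (hU.primeIdealOf ⟨y, hyU⟩)).mp hpy).map
      hU.fromSpec.continuous
    rwa [hU.fromSpec_primeIdealOf] at this
  · rw [isWeakAssPoint_iff_weakAss hF hU hxU, e]
    exact ⟨t, hp⟩
  · intro h0
    have h0' : F.presheaf.germ U _ hxU t = 0 := by
      rw [ht, TopCat.Presheaf.germ_res_apply]; exact h0
    obtain ⟨c, hc, hc0⟩ := (germ_eq_zero_iff hU hxU hF t).mp h0'
    have hcp := (isUnit_germ_iff hU hxU c).mp hc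
    rw [e] at hcp
    exact hcp (hp.1.2 (Calg5.mem_ann.mpr hc0))

include hF in
theorem eq_zero_of_germ_weakAss {W : X.Opens} (s : Γ(F, W))
    (h : ∀ (x : X) (hx : x ∈ W), Curv2.IsWeakAssPoint F x → F.presheaf.germ W x hx s = 0) :
    s = 0 := by
  refine TopCat.Presheaf.section_ext ⟨F.presheaf, F.isSheaf⟩ W s 0 fun y hy => ?_
  erw [map_zero]
  by_contra hne
  obtain ⟨x, hx, -, hwa, hx0⟩ := exists_weakAss_germ_ne_zero hF s hy hne
  exact hx0 (h x hx hwa)

include hF in
theorem restrict_injective {U W : X.Opens} (hle : U ≤ W)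
    (h : ∀ x : X, x ∈ W → Curv2.IsWeakAssPoint F x → x ∈ U) :
    Function.Injective (F.presheaf.map (homOfLE hle).op) := by
  refine (injective_iff_map_eq_zero (F.presheaf.map (homOfLE hle).op).hom).mpr fun s hs => ?_
  refine eq_zero_of_germ_weakAss hF s fun x hx hwa => ?_
  have := congrArg (F.presheaf.germ U x (h x hx hwa)).hom hs
  rwa [TopCat.Presheaf.germ_res_apply, map_zero] at this

include hF in
theorem weakAss_of_maximal_support {x : X} (hx : x ∈ CohB1.support F)
    (hmax : ∀ y : X, y ∈ CohB1.support F → y ⤳ x → y = x) : Curv2.IsWeakAssPoint F x := by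
  obtain ⟨z, hz⟩ : ∃ z : F.presheaf.stalk x, z ≠ 0 := by
    by_contra hne
    simp only [not_exists, not_not] at hne
    exact hx ⟨fun a b => by rw [hne a, hne b]⟩
  obtain ⟨W, hxW, s, rfl⟩ := TopCat.Presheaf.exists_germ_eq F.presheaf z
  obtain ⟨y, hy, hsp, hwa, hy0⟩ := exists_weakAss_germ_ne_zero hF s hxW hz
  have : y ∈ CohB1.support F := fun h => hy0 (Subsingleton.elim _ _)
  exact (hmax y this hsp) ▸ hwa

theorem not_weakAss_of_isZero (h : Limits.IsZero F) (x : X) : ¬ Curv2.IsWeakAssPoint F x := by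
  rw [isWeakAssPoint_iff]
  rintro ⟨z, h1, -⟩
  refine h1 1 ?_ isUnit_one
  rw [one_smul]
  obtain ⟨W, hxW, s, rfl⟩ := TopCat.Presheaf.exists_germ_eq F.presheaf z
  have h0 : (𝟙 F : F ⟶ F) = 0 := h.eq_of_src _ _
  have h1 := congrArg (fun φ : F ⟶ F => φ.app W s) h0
  change s = 0 at h1
  rw [h1, map_zero]

include hF in
theorem isZero_of_no_weakAss (h : ∀ x : X, ¬ Curv2.IsWeakAssPoint F x) : Limits.IsZero F := by
  rw [Limits.IsZero.iff_id_eq_zero]
  ext W s
  change s = 0
  exact eq_zero_of_germ_weakAss hF s fun x _ hwa => absurd hwa (h x)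

end Groth.Divisors
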