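/-
Weakly associated points of the structure sheaf; tilde modules.
-/
import Groth.Agent.Divisors.Assoc
import Mathlib.Algebra.Category.ModuleCat.Sheaf.LocallyFree

universe u

open CategoryTheory CategoryTheory.Limits AlgebraicGeometry TopologicalSpace Opposite

namespace Groth.Divisors

variable {X : Scheme.{u}}

theorem isQCoh_structureModule (X : Scheme.{u}) : Coh.IsQCoh (Coh.structureModule X) := by
  have e : SheafOfModules.free (R := X.ringCatSheaf) PUnit.{u+1} ≅ Coh.structureModule X :=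
    coproductUniqueIso _
  exact (SheafOfModules.isQuasicoherent X.ringCatSheaf).prop_of_iso e inferInstance

theorem primeIdealOf_minimal_iff {U : X.Opens} (hU : IsAffineOpen U) {x : X} (hx : x ∈ U) :
    (hU.primeIdealOf ⟨x, hx⟩).asIdeal ∈ minimalPrimes Γ(X, U) ↔ ∀ y : X, y ⤳ x → y = x := by
  constructor
  · intro h y hy
    have hyU : y ∈ U := hy.mem_open U.2 hx
    have hsp : hU.primeIdealOf ⟨y, hyU⟩ ⤳ hU.primeIdealOf ⟨x, hx⟩ := by
      refine hU.fromSpec.isOpenEmbedding.isInducing.specializes_iff.mp ?_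
      rw [hU.fromSpec_primeIdealOf, hU.fromSpec_primeIdealOf]; exact hy
    have hle := (PrimeSpectrum.le_iff_specializes _ _).mpr hsp
    have e : hU.primeIdealOf ⟨y, hyU⟩ = hU.primeIdealOf ⟨x, hx⟩ :=
      PrimeSpectrum.ext (le_antisymm hle (h.2 ⟨(hU.primeIdealOf ⟨y, hyU⟩).2, bot_le⟩ hle))
    exact (hU.fromSpec_primeIdealOf ⟨y, hyU⟩).symm.trans
      ((congrArg hU.fromSpec e).trans (hU.fromSpec_primeIdealOf ⟨x, hx⟩))
  · intro hmax
    refine ⟨⟨(hU.primeIdealOf ⟨x, hx⟩).2, bot_le⟩, fun q hq hqp => ?_⟩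
    let q' : PrimeSpectrum Γ(X, U) := ⟨q, hq.1⟩
    have h2 := ((PrimeSpectrum.le_iff_specializes q' _).mp hqp).map hU.fromSpec.continuous
    rw [hU.fromSpec_primeIdealOf] at h2
    have e : q' = hU.primeIdealOf ⟨x, hx⟩ := by
      apply hU.fromSpec.isOpenEmbedding.injective
      exact (hmax _ h2).trans (hU.fromSpec_primeIdealOf ⟨x, hx⟩).symm
    exact (congrArg PrimeSpectrum.asIdeal e).ge

theorem weakAss_self_iff_of_reduced {A : Type u} [CommRing A] [_root_.IsReduced A] {p : Ideal A}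
    [hp : p.IsPrime] : p ∈ FlatCA.weakAss A A ↔ p ∈ minimalPrimes A := by
  rw [Calg5.mem_weakAss_iff]
  constructor
  · rintro ⟨-, m, h1, h2⟩
    have hm : m ∉ p := by
      intro hmp
      obtain ⟨s, hs, n, hn⟩ := h2 m hmp
      apply hs
      apply h1 s
      have h : (s • m) ^ (n + 1) = 0 := by
        rw [smul_eq_mul] at hn
        rw [smul_eq_mul, mul_pow, pow_succ' s, pow_succ m,
          show s * s ^ n * (m ^ n * m) = s ^ n * (s * m ^ n * m) by ring, hn, mul_zero]
      exact IsNilpotent.eq_zero ⟨n + 1, h⟩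
    refine ⟨⟨hp, bot_le⟩, fun q hq hqp a ha => ?_⟩
    obtain ⟨s, hs, n, hn⟩ := h2 a ha
    have hmem : s * a ^ n * m ∈ q := by rw [← smul_eq_mul, hn]; exact q.zero_mem
    rcases hq.1.mem_or_mem hmem with h | h
    · rcases hq.1.mem_or_mem h with h | h
      · exact absurd (hqp h) hs
      · exact hq.1.mem_of_pow_mem n h
    · exact absurd (hqp h) hm
  · intro h
    refine ⟨hp, 1, Calg5.isWA_iff_mem_minimalPrimes.mpr ?_⟩
    have : (Submodule.span A {(1 : A)}).annihilator = ⊥ := by
      rw [eq_bot_iff]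
      intro r hr
      simpa using Calg5.mem_ann.mp hr
    rw [this]
    exact h

theorem weakAss_self_of_minimal {A : Type u} [CommRing A] {p : Ideal A} (h : p ∈ minimalPrimes A) :
    p ∈ FlatCA.weakAss A A := by
  refine ⟨1, ?_⟩
  have : (Submodule.span A {(1 : A)}).annihilator = ⊥ := by
    rw [eq_bot_iff]
    intro r hr
    simpa using Calg5.mem_ann.mp hr
  rw [this]
  exact h

theorem weakAss_structure_of_maximal {x : X} (hmax : ∀ y : X, y ⤳ x → y = x) :
    Curv2.IsWeakAssPoint (Coh.structureModule X) x := by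
  obtain ⟨U, hxU, -⟩ := exists_affine_le x ⊤ trivial
  rw [isWeakAssPoint_iff_weakAss (isQCoh_structureModule X) U.2 hxU]
  exact weakAss_self_of_minimal ((primeIdealOf_minimal_iff U.2 hxU).mpr hmax)

theorem weakAss_structure_iff_of_reduced [IsReduced X] {x : X} :
    Curv2.IsWeakAssPoint (Coh.structureModule X) x ↔ ∀ y : X, y ⤳ x → y = x := by
  refine ⟨fun h => ?_, weakAss_structure_of_maximal⟩
  obtain ⟨U, hxU, -⟩ := exists_affine_le x ⊤ trivial
  rw [isWeakAssPoint_iff_weakAss (isQCoh_structureModule X) U.2 hxU] at h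
  exact (primeIdealOf_minimal_iff U.2 hxU).mp
    ((weakAss_self_iff_of_reduced (A := Γ(X, U.1))).mp h)

theorem weakAss_of_semilinearEquiv {R S : Type u} [CommRing R] [CommRing S] {M N : Type u}
    [AddCommGroup M] [Module R M] [AddCommGroup N] [Module S N] (e : R ≃+* S) (φ : M ≃+ N)
    (h : ∀ (r : R) (m : M), φ (r • m) = e r • φ m) (p : Ideal S) :
    p ∈ FlatCA.weakAss S N ↔ p.comap e.toRingHom ∈ FlatCA.weakAss R M := by
  rw [Calg5.mem_weakAss_iff, Calg5.mem_weakAss_iff]
  have key : ∀ (r : R) (m : M), e r • φ m = 0 ↔ r • m = 0 := fun r m => by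
    rw [← h, φ.map_eq_zero_iff]
  constructor
  · rintro ⟨hp, n, h1, h2⟩
    refine ⟨Ideal.IsPrime.comap _, φ.symm n, fun r hr => ?_, fun a ha => ?_⟩
    · exact h1 (e r) (by have := (key r (φ.symm n)).mpr hr; rwa [φ.apply_symm_apply] at this)
    · obtain ⟨s, hs, k, hk⟩ := h2 (e a) ha
      refine ⟨e.symm s, fun hmem => hs (e.apply_symm_apply s ▸ (Ideal.mem_comap.mp hmem)), k, (key _ _).mp ?_⟩
      rw [φ.apply_symm_apply, map_mul, map_pow, e.apply_symm_apply]
      exact hk
  · rintro ⟨hp, m, h1, h2⟩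
    have hpp : p.IsPrime := by
      have hpe : p = (p.comap e.toRingHom).comap e.symm.toRingHom := by
        ext a
        refine Iff.symm ?_
        change e (e.symm a) ∈ p ↔ a ∈ p
        rw [e.apply_symm_apply]
      rw [hpe]
      exact Ideal.IsPrime.comap _
    refine ⟨hpp, φ m, fun r hr => ?_, fun a ha => ?_⟩
    · have := h1 (e.symm r) ((key _ _).mp (by rw [e.apply_symm_apply]; exact hr))
      exact e.apply_symm_apply r ▸ (Ideal.mem_comap.mp this)
    · obtain ⟨s, hs, k, hk⟩ := h2 (e.symm a) (show e (e.symm a) ∈ p by rwa [e.apply_symm_apply])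
      refine ⟨e s, hs, k, ?_⟩
      have := (key _ m).mpr hk
      rwa [map_mul, map_pow, e.apply_symm_apply] at this

theorem isWeakAssPoint_tilde_iff (A : CommRingCat.{u}) (M : ModuleCat.{u} A) (p : Spec A) :
    p.asIdeal ∈ FlatCA.weakAss A M ↔ Curv2.IsWeakAssPoint (tilde M) p := by
  rw [isWeakAssPoint_iff_weakAss (F := tilde M) inferInstance
    (isAffineOpen_top (Spec A)) (x := p) trivial]
  let e : A ≃+* Γ(Spec A, ⊤) := (Scheme.ΓSpecIso A).symm.commRingCatIsoToRingEquiv
  let φ : M ≃+ Γ(tilde M, ⊤) := (tilde.isoTop M).toLinearEquiv.toAddEquiv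
  have hφ : ∀ (r : A) (m : M), φ (r • m) = e r • φ m := by
    intro r m
    refine ((tilde.isoTop M).toLinearEquiv.map_smul r m).trans ?_
    refine (Scheme.Modules.smul_Spec_def r ((tilde.isoTop M).toLinearEquiv m : Γ(tilde M, ⊤))).trans ?_
    have : (⊤ : (Spec A).Opens).leTop = 𝟙 _ := Subsingleton.elim _ _
    rw [this, op_id, (Spec A).presheaf.map_id]
    rfl
  rw [weakAss_of_semilinearEquiv e φ hφ]
  suffices h : ((isAffineOpen_top (Spec A)).primeIdealOf ⟨p, trivial⟩).asIdeal.comap e.toRingHom =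
      p.asIdeal by rw [h]
  ext r
  rw [Ideal.mem_comap, ← not_iff_not]
  refine (isUnit_germ_iff (isAffineOpen_top (Spec A)) (x := p) trivial _).symm.trans ?_
  refine ((Scheme.mem_basicOpen_top (Spec A) (e.toRingHom r) p).symm).trans ?_
  rw [basicOpen_eq_of_affine']
  simp [e]
  exact Iff.rfl

end Groth.Divisors
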