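/-
Nonzerodivisor sections and associated points of the structure sheaf; short exact sequences.
-/
import Groth.Agent.Divisors.AssocMore
import Groth.Agent.Divisors.EffCartier

universe u

open CategoryTheory CategoryTheory.Limits AlgebraicGeometry TopologicalSpace Opposite

namespace Groth.Divisors

variable {X Y : Scheme.{u}}

theorem structure_germ_eq_zero_iff {U : X.Opens} {x : X} (hx : x ∈ U) (t : Γ(X, U)) :
    (Coh.structureModule X).presheaf.germ U x hx (show Γ(Coh.structureModule X, U) from t) = 0 ↔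
      X.presheaf.germ U x hx t = 0 := by
  constructor
  · intro h
    rw [← map_zero ((Coh.structureModule X).presheaf.germ U x hx).hom] at h
    obtain ⟨W, hxW, i, j, he⟩ := (Coh.structureModule X).presheaf.germ_eq x _ _ _ _ h
    have he' : X.presheaf.map i.op t = 0 := by rw [map_zero] at he; exact he
    rw [← TopCat.Presheaf.germ_res_apply X.presheaf i x hxW t, he', map_zero]
  · intro h
    rw [← map_zero (X.presheaf.germ U x hx).hom] at h
    obtain ⟨W, hxW, i, j, he⟩ := X.presheaf.germ_eq x _ _ _ _ h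
    have he' : (Coh.structureModule X).presheaf.map i.op
        (show Γ(Coh.structureModule X, U) from t) = 0 := by rw [map_zero] at he; exact he
    rw [← TopCat.Presheaf.germ_res_apply (Coh.structureModule X).presheaf i x hxW, he', map_zero]

theorem eq_zero_of_germ_weakAss_structure {U : X.Opens} (t : Γ(X, U))
    (h : ∀ (x : X) (hx : x ∈ U), Curv2.IsWeakAssPoint (Coh.structureModule X) x →
      X.presheaf.germ U x hx t = 0) : t = 0 :=
  eq_zero_of_germ_weakAss (isQCoh_structureModule X) (show Γ(Coh.structureModule X, U) from t)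
    fun x hx hwa => (structure_germ_eq_zero_iff hx t).mpr (h x hx hwa)

/-- A section is a nonzerodivisor everywhere as soon as it is one at the weakly associated points. -/
theorem isNzdSec_of_weakAss {U : X.Opens} (s : Γ(X, U))
    (h : ∀ (x : X) (hx : x ∈ U), Curv2.IsWeakAssPoint (Coh.structureModule X) x →
      X.presheaf.germ U x hx s ∈ nonZeroDivisors (X.presheaf.stalk x)) : IsNzdSec s := by
  intro x hx
  rw [mem_nonZeroDivisors_iff_right]
  intro a ha
  obtain ⟨V, hxV, t, rfl⟩ := TopCat.Presheaf.exists_germ_eq X.presheaf a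
  rw [← TopCat.Presheaf.germ_res_apply X.presheaf (homOfLE (inf_le_left : V ⊓ U ≤ V)) x ⟨hxV, hx⟩ t,
    ← TopCat.Presheaf.germ_res_apply X.presheaf (homOfLE (inf_le_right : V ⊓ U ≤ U)) x ⟨hxV, hx⟩ s,
    ← map_mul, ← map_zero (X.presheaf.germ (V ⊓ U) x ⟨hxV, hx⟩).hom] at ha
  obtain ⟨W, hxW, i, j, he⟩ := X.presheaf.germ_eq x _ _ _ _ ha
  rw [map_zero, map_mul] at he
  have key : X.presheaf.map i.op (X.presheaf.map (homOfLE (inf_le_left : V ⊓ U ≤ V)).op t) = 0 := by
    refine eq_zero_of_germ_weakAss_structure _ fun y hy hwa => ?_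
    have := congrArg (X.presheaf.germ W y hy).hom he
    rw [map_mul, map_zero] at this
    simp only [TopCat.Presheaf.germ_res_apply] at this ⊢
    exact mem_nonZeroDivisors_iff_right.mp (h y (i.le hy).2 hwa) _ this
  have h2 := congrArg (X.presheaf.germ W x hxW).hom key
  rw [map_zero] at h2
  simp only [TopCat.Presheaf.germ_res_apply] at h2 ⊢
  exact h2

theorem isEffCartierIdeal_comap_weakAss {I : Y.IdealSheafData} (hI : BlowUp.IsEffCartierIdeal I)
    (f : X ⟶ Y)
    (h : ∀ x : X, Curv2.IsWeakAssPoint (Coh.structureModule X) x → f x ∉ I.support) :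
    BlowUp.IsEffCartierIdeal (I.comap f) := by
  refine isEffCartierIdeal_comap_of_nzd hI f fun W g _ hgI x hx => ?_
  have key : IsNzdSec (f.app W.1 g) := by
    refine isNzdSec_of_weakAss _ fun y hy hwa => ?_
    have hu := ((not_mem_support_iff hgI hy).mp (h y hwa)).map (f.stalkMap y).hom
    erw [Scheme.Hom.germ_stalkMap_apply] at hu
    exact hu.mem_nonZeroDivisors
  erw [Scheme.Hom.germ_stalkMap_apply]
  exact key x hx

theorem isUnit_germ_of_maximal' {U : X.Opens} {s : Γ(X, U)} (hs : IsNzdSec s) {x : X} (hx : x ∈ U)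
    (hmax : ∀ y : X, y ⤳ x → y = x) : IsUnit (X.presheaf.germ U x hx s) := by
  obtain ⟨W, hxW, hW⟩ := exists_affine_le x U hx
  have := isUnit_germ_of_maximal W.2 (hs.res hW) hxW hmax
  rwa [TopCat.Presheaf.germ_res_apply] at this

theorem isNzdSec_app_of_weakAss_to_maximal (f : X ⟶ Y)
    (h : ∀ x : X, Curv2.IsWeakAssPoint (Coh.structureModule X) x → ∀ y : Y, y ⤳ f x → y = f x)
    {U : Y.Opens} {s : Γ(Y, U)} (hs : IsNzdSec s) : IsNzdSec (f.app U s) := by
  refine isNzdSec_of_weakAss _ fun x hx hwa => ?_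
  have hu := (isUnit_germ_of_maximal' hs hx (h x hwa)).map (f.stalkMap x).hom
  erw [Scheme.Hom.germ_stalkMap_apply] at hu
  exact hu.mem_nonZeroDivisors

/-- On a locally Noetherian scheme a nonzerodivisor germ is the germ of a section with
nonzerodivisor germs everywhere. -/
theorem exists_isNzdSec_of_germ [IsLocallyNoetherian X] {x : X} (g : X.presheaf.stalk x)
    (hg : g ∈ nonZeroDivisors (X.presheaf.stalk x)) :
    ∃ (U : X.Opens) (hx : x ∈ U) (t : Γ(X, U)), IsNzdSec t ∧ X.presheaf.germ U x hx t = g := by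
  obtain ⟨V, hxV, t, rfl⟩ := TopCat.Presheaf.exists_germ_eq X.presheaf g
  obtain ⟨⟨U, hU'⟩, hxU, hUV⟩ := exists_affine_le x V hxV
  dsimp only at hxU hUV
  have hU : IsAffineOpen U := hU'
  have : IsNoetherianRing Γ(X, U) := IsLocallyNoetherian.component_noetherian ⟨U, hU⟩
  set t' := X.presheaf.map (homOfLE hUV).op t with ht'
  let J : Ideal Γ(X, U) := LinearMap.ker (LinearMap.mulLeft Γ(X, U) t')
  obtain ⟨S, hS⟩ := IsNoetherian.noetherian J
  have key : ∀ a ∈ S, ∃ c : Γ(X, U), IsUnit (X.presheaf.germ U x hxU c) ∧ c * a = 0 := by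
    intro a ha
    have haJ : t' * a = 0 := by
      have : a ∈ J := hS ▸ Ideal.subset_span ha
      exact this
    have h0 : X.presheaf.germ U x hxU a = 0 := by
      have := congrArg (X.presheaf.germ U x hxU).hom haJ
      rw [map_mul, map_zero, mul_comm, ht', TopCat.Presheaf.germ_res_apply] at this
      exact mem_nonZeroDivisors_iff_right.mp hg _ this
    obtain ⟨c, hc, hc0⟩ := (germ_eq_zero_iff hU hxU (isQCoh_structureModule X)
      (show Γ(Coh.structureModule X, U) from a)).mp ((structure_germ_eq_zero_iff hxU a).mpr h0)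
    exact ⟨c, hc, hc0⟩
  choose! c hc hc0 using key
  let e : Γ(X, U) := ∏ a ∈ S, c a
  have he : IsUnit (X.presheaf.germ U x hxU e) := by
    simp only [e, map_prod]
    exact IsUnit.prod_iff.mpr hc
  have heJ : ∀ a ∈ J, e * a = 0 := by
    intro a ha
    rw [← hS] at ha
    induction ha using Submodule.span_induction with
    | mem b hb =>
      classical
      rw [show e = (∏ a ∈ S.erase b, c a) * c b from (Finset.prod_erase_mul S c hb).symm, mul_assoc,
        hc0 b hb, mul_zero]
    | zero => rw [mul_zero]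
    | add _ _ _ _ h1 h2 => rw [mul_add, h1, h2, add_zero]
    | smul r b _ hb => rw [smul_eq_mul, mul_left_comm, hb, mul_zero]
  refine ⟨X.basicOpen e, (X.mem_basicOpen e x hxU).mpr he,
    X.presheaf.map (homOfLE (X.basicOpen_le e)).op t', ?_, ?_⟩
  · refine isNzdSec_of_mem (hU.basicOpen e) ?_
    rw [mem_nonZeroDivisors_iff_right]
    intro b hb
    have hloc := hU.isLocalization_basicOpen e
    obtain ⟨⟨a, k⟩, hab⟩ := IsLocalization.surj (Submonoid.powers e) b
    have hu := IsLocalization.map_units Γ(X, X.basicOpen e) k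
    have h1 : algebraMap Γ(X, U) Γ(X, X.basicOpen e) (a * t') = 0 := by
      rw [map_mul, ← hab, mul_right_comm]
      change b * algebraMap Γ(X, U) Γ(X, X.basicOpen e) t' * _ = 0
      rw [show b * algebraMap Γ(X, U) Γ(X, X.basicOpen e) t' = 0 from hb, zero_mul]
    obtain ⟨⟨_, n, rfl⟩, hn⟩ := (IsLocalization.map_eq_zero_iff (Submonoid.powers e) _ _).mp h1
    have hmem : e ^ n * a ∈ J := by
      change t' * (e ^ n * a) = 0
      rw [mul_comm t', mul_assoc]; exact hn
    have h2 : algebraMap Γ(X, U) Γ(X, X.basicOpen e) (e ^ (n + 1) * a) = 0 := by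
      rw [pow_succ', mul_assoc, heJ _ hmem, map_zero]
    have hue : IsUnit (algebraMap Γ(X, U) Γ(X, X.basicOpen e) (e ^ (n + 1))) :=
      IsLocalization.map_units Γ(X, X.basicOpen e) (⟨e ^ (n + 1), n + 1, rfl⟩ : Submonoid.powers e)
    rw [map_mul, hue.mul_right_eq_zero, ← hab] at h2
    exact hu.mul_left_eq_zero.mp h2
  · rw [TopCat.Presheaf.germ_res_apply, ht', TopCat.Presheaf.germ_res_apply]

theorem isAssociatedPrime_stalk_iff (x : X) :
    IsAssociatedPrime (IsLocalRing.maximalIdeal (X.presheaf.stalk x)) (X.presheaf.stalk x) ↔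
      ∃ z : X.presheaf.stalk x, (∀ a, a * z = 0 → ¬ IsUnit a) ∧ ∀ a, ¬ IsUnit a → ∃ n : ℕ, a ^ n * z = 0 := by
  constructor
  · rintro ⟨-, z, hz⟩
    refine ⟨z, fun a ha hu => ?_, fun a ha => ?_⟩
    · have : a ∈ IsLocalRing.maximalIdeal (X.presheaf.stalk x) := by
        rw [hz]; exact Ideal.le_radical (by simpa [Submodule.mem_colon_singleton] using ha)
      exact this hu
    · have : a ∈ IsLocalRing.maximalIdeal (X.presheaf.stalk x) := ha
      rw [hz] at this
      obtain ⟨n, hn⟩ := this
      exact ⟨n, by simpa [Submodule.mem_colon_singleton] using hn⟩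
  · rintro ⟨z, h1, h2⟩
    refine ⟨inferInstance, z, le_antisymm (fun a ha => ?_) ?_⟩
    · obtain ⟨n, hn⟩ := h2 a ha
      exact ⟨n, by simpa [Submodule.mem_colon_singleton] using hn⟩
    · rintro a ⟨n, hn⟩ hu
      exact h1 (a ^ n) (by simpa [Submodule.mem_colon_singleton] using hn) (hu.pow n)

theorem smul_structure_germ_iff {V : X.Opens} {x : X} (hxV : x ∈ V) (t : Γ(X, V))
    (a : X.presheaf.stalk x) :
    a • (Coh.structureModule X).presheaf.germ V x hxV (show Γ(Coh.structureModule X, V) from t) = 0 ↔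
      a * X.presheaf.germ V x hxV t = 0 := by
  obtain ⟨W, hxW, r, rfl⟩ := TopCat.Presheaf.exists_germ_eq X.presheaf a
  have hx' : x ∈ W ⊓ V := ⟨hxW, hxV⟩
  rw [← TopCat.Presheaf.germ_res_apply X.presheaf (homOfLE (inf_le_left : W ⊓ V ≤ W)) x hx' r,
    ← TopCat.Presheaf.germ_res_apply (Coh.structureModule X).presheaf
      (homOfLE (inf_le_right : W ⊓ V ≤ V)) x hx',
    ← TopCat.Presheaf.germ_res_apply X.presheaf (homOfLE (inf_le_right : W ⊓ V ≤ V)) x hx' t,
    ← map_mul]
  erw [← germ_smul_mod hx' (Coh.structureModule X)]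
  exact structure_germ_eq_zero_iff hx' _

theorem weakAss_structure_iff_stalk (x : X) :
    Curv2.IsWeakAssPoint (Coh.structureModule X) x ↔
      IsAssociatedPrime (IsLocalRing.maximalIdeal (X.presheaf.stalk x)) (X.presheaf.stalk x) := by
  rw [isWeakAssPoint_iff, isAssociatedPrime_stalk_iff]
  constructor
  · rintro ⟨z, h1, h2⟩
    obtain ⟨V, hxV, t, rfl⟩ := TopCat.Presheaf.exists_germ_eq (Coh.structureModule X).presheaf z
    exact ⟨X.presheaf.germ V x hxV (show Γ(X, V) from t),
      fun a ha => h1 a ((smul_structure_germ_iff hxV _ a).mpr ha),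
      fun a ha => (h2 a ha).imp fun n hn => (smul_structure_germ_iff hxV _ _).mp hn⟩
  · rintro ⟨z, h1, h2⟩
    obtain ⟨V, hxV, t, rfl⟩ := TopCat.Presheaf.exists_germ_eq X.presheaf z
    exact ⟨(Coh.structureModule X).presheaf.germ V x hxV (show Γ(Coh.structureModule X, V) from t),
      fun a ha => h1 a ((smul_structure_germ_iff hxV t a).mp ha),
      fun a ha => (h2 a ha).imp fun n hn => (smul_structure_germ_iff hxV t _).mpr hn⟩

theorem dense_iff_weakAss [IsLocallyNoetherian X] (U : X.Opens) :
    (∀ V : X.Opens, Function.Injective (X.presheaf.map (homOfLE (inf_le_left : V ⊓ U ≤ V)).op)) ↔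
      ∀ x : X, Curv2.IsWeakAssPoint (Coh.structureModule X) x → x ∈ U := by
  constructor
  · intro h x hwa
    by_contra hxU
    obtain ⟨⟨W, hW'⟩, hxW, -⟩ := exists_affine_le x ⊤ trivial
    dsimp only at hxW
    have hW : IsAffineOpen W := hW'
    have : IsNoetherianRing Γ(X, W) := IsLocallyNoetherian.component_noetherian ⟨W, hW⟩
    have hwa' := (isWeakAssPoint_iff_weakAss (isQCoh_structureModule X) hW hxW).mp hwa
    erw [Calg5.weakAss_eq_associatedPrimes] at hwa'
    obtain ⟨hp, s, hs⟩ := isAssociatedPrime_iff.mp hwa'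
    have hs' : ∀ r : Γ(X, W), r ∈ (hW.primeIdealOf ⟨x, hxW⟩).asIdeal ↔
        r * (show Γ(X, W) from s) = 0 := fun r => by
      rw [hs, Submodule.mem_colon_singleton]; rfl
    have h0 : X.presheaf.map (homOfLE (inf_le_left : W ⊓ U ≤ W)).op (show Γ(X, W) from s) = 0 := by
      refine section_ext fun y hy => ?_
      rw [TopCat.Presheaf.germ_res_apply, map_zero]
      by_contra hne
      have hsp : hW.primeIdealOf ⟨x, hxW⟩ ≤ hW.primeIdealOf ⟨y, hy.1⟩ := by
        intro r hr
        by_contra hry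
        apply hne
        have := congrArg (X.presheaf.germ W y hy.1).hom ((hs' r).mp hr)
        rw [map_mul, map_zero] at this
        exact ((isUnit_germ_iff hW hy.1 r).mpr hry).mul_right_eq_zero.mp this
      have h2 := ((PrimeSpectrum.le_iff_specializes _ _).mp hsp).map hW.fromSpec.continuous
      rw [hW.fromSpec_primeIdealOf, hW.fromSpec_primeIdealOf] at h2
      exact hxU (h2.mem_open U.2 hy.2)
    have hzero : (show Γ(X, W) from s) = 0 := h W (h0.trans (map_zero _).symm)
    exact hp.ne_top ((Ideal.eq_top_iff_one _).mpr ((hs' 1).mpr (by rw [hzero, mul_zero])))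
  · intro h V
    refine (injective_iff_map_eq_zero (X.presheaf.map (homOfLE (inf_le_left : V ⊓ U ≤ V)).op).hom).mpr
      fun s hs => ?_
    refine eq_zero_of_germ_weakAss_structure s fun x hx hwa => ?_
    have := congrArg (X.presheaf.germ (V ⊓ U) x ⟨hx, h x hwa⟩).hom hs
    erw [TopCat.Presheaf.germ_res_apply] at this
    exact this.trans (map_zero _)

end Groth.Divisors
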