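/-
Dimensions along effective Cartier divisors, and pointwise criteria for being one.
-/
import Groth.Agent.Divisors.EffCartierMore
import Groth.Agent.Divisors.AssocMore
import Groth.Agent.Divisors.AssocNzd
import Mathlib.RingTheory.Ideal.KrullsHeightTheorem
import Mathlib.RingTheory.DiscreteValuationRing.TFAE

universe u

open CategoryTheory CategoryTheory.Limits AlgebraicGeometry TopologicalSpace Opposite

namespace Groth.Divisors

section Algebra

variable {A : Type*} [CommRing A]

theorem exists_local_generator [IsNoetherianRing A] (I p : Ideal A) [p.IsPrime] (B : Type*)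
    [CommRing B] [Algebra A B] [IsLocalization.AtPrime B p] {g : B} (hg : g ∈ nonZeroDivisors B)
    (hI : I.map (algebraMap A B) = Ideal.span {g}) :
    ∃ s ∉ p, ∃ a ∈ I, (∀ i ∈ I, ∃ c, s * i = c * a) ∧ ∀ c, c * a = 0 → s * c = 0 := by
  classical
  have hgI : g ∈ I.map (algebraMap A B) := hI ▸ Ideal.mem_span_singleton_self g
  obtain ⟨⟨⟨a, ha⟩, c₀, hc₀⟩, e⟩ := (IsLocalization.mem_map_algebraMap_iff p.primeCompl B).mp hgI
  dsimp only at e
  have hu : IsUnit (algebraMap A B c₀) := IsLocalization.map_units B (⟨c₀, hc₀⟩ : p.primeCompl)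
  have key : ∀ i ∈ I, ∃ s ∉ p, ∃ c, s * i = c * a := by
    intro i hi
    have h1 : algebraMap A B i ∈ Ideal.span {algebraMap A B a} := by
      rw [← e, Ideal.span_singleton_mul_right_unit hu, ← hI]
      exact Ideal.mem_map_of_mem _ hi
    obtain ⟨b, hb⟩ := Ideal.mem_span_singleton'.mp h1
    obtain ⟨b₁, d, rfl⟩ := IsLocalization.exists_mk'_eq p.primeCompl b
    have h2 : algebraMap A B (b₁ * a) = algebraMap A B (d * i) := by
      rw [map_mul, map_mul, ← hb, ← IsLocalization.mk'_spec' B b₁ d, mul_assoc]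
    obtain ⟨t, ht⟩ := IsLocalization.exists_of_eq (M := p.primeCompl) h2
    exact ⟨t * d, (t * d).2, t * b₁, by rw [mul_assoc, mul_assoc, ht]⟩
  have kz : ∀ c, c * a = 0 → ∃ s ∉ p, s * c = 0 := by
    intro c hc
    have h1 : algebraMap A B c * g = 0 := by
      refine hu.mul_left_eq_zero.mp ?_
      rw [mul_assoc, e, ← map_mul, hc, map_zero]
    obtain ⟨⟨s, hs⟩, h⟩ := (IsLocalization.map_eq_zero_iff p.primeCompl B c).mp
      (mem_nonZeroDivisors_iff_right.mp hg _ h1)
    exact ⟨s, hs, h⟩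
  obtain ⟨T, hT⟩ := IsNoetherian.noetherian I
  obtain ⟨N, hN⟩ := IsNoetherian.noetherian (LinearMap.ker (LinearMap.mulRight A a))
  choose σ hσ γ hγ using fun i : T => key i.1 (hT.le (Submodule.subset_span i.2))
  choose τ hτ hτ0 using fun i : N => kz i.1
    (LinearMap.mem_ker.mp (hN.le (Submodule.subset_span i.2)))
  have hprod : ∀ {ι : Type _} (f : ι → A) (S : Finset ι), (∀ i, f i ∉ p) → ∏ i ∈ S, f i ∉ p := by
    intro ι f S hf h
    obtain ⟨i, -, hi⟩ := (‹p.IsPrime›.prod_mem_iff).mp h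
    exact hf i hi
  refine ⟨(∏ i ∈ T.attach, σ i) * ∏ i ∈ N.attach, τ i, fun h =>
    (‹p.IsPrime›.mem_or_mem h).elim (hprod σ _ hσ) (hprod τ _ hτ), a, ha, fun i hi => ?_,
    fun c hc => ?_⟩
  · have hi' : i ∈ Submodule.span A (T : Set A) := hT.ge hi
    clear hi
    induction hi' using Submodule.span_induction with
    | mem x hx =>
      refine ⟨(∏ i ∈ T.attach.erase ⟨x, hx⟩, σ i) * (∏ i ∈ N.attach, τ i) * γ ⟨x, hx⟩, ?_⟩
      rw [← Finset.prod_erase_mul T.attach σ (Finset.mem_attach T ⟨x, hx⟩), mul_assoc _ _ a,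
        ← hγ ⟨x, hx⟩]
      ring
    | zero => exact ⟨0, by simp⟩
    | add x y _ _ hx hy =>
      obtain ⟨c, hc⟩ := hx; obtain ⟨d, hd⟩ := hy
      exact ⟨c + d, by rw [mul_add, hc, hd, add_mul]⟩
    | smul r x _ hx =>
      obtain ⟨c, hc⟩ := hx
      exact ⟨r * c, by rw [smul_eq_mul, mul_assoc r c a, ← hc]; ring⟩
  · have hc' : c ∈ Submodule.span A (N : Set A) := hN.ge (LinearMap.mem_ker.mpr hc)
    clear hc
    induction hc' using Submodule.span_induction with
    | mem x hx =>
      rw [← Finset.prod_erase_mul N.attach τ (Finset.mem_attach N ⟨x, hx⟩), mul_assoc, mul_assoc,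
        hτ0 ⟨x, hx⟩, mul_zero, mul_zero]
    | zero => rw [mul_zero]
    | add x y _ _ hx hy => rw [mul_add, hx, hy, add_zero]
    | smul r x _ hx => rw [smul_eq_mul, mul_left_comm, hx, mul_zero]

theorem exists_domain_dvr_of_maximalIdeal_span (R : Type*) [CommRing R] [IsLocalRing R]
    [IsNoetherianRing R] {g : R} (hg : g ∈ nonZeroDivisors R)
    (hm : IsLocalRing.maximalIdeal R = Ideal.span {g}) :
    ∃ _ : IsDomain R, IsDiscreteValuationRing R := by
  classical
  have key : ∀ a : R, a ≠ 0 → ∃ (n : ℕ) (v : R), IsUnit v ∧ a = g ^ n * v := by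
    intro a ha
    have h : ∃ n, a ∉ IsLocalRing.maximalIdeal R ^ n := by
      by_contra h
      simp only [not_exists, not_not] at h
      have h2 : a ∈ ⨅ n, IsLocalRing.maximalIdeal R ^ n := Submodule.mem_iInf _ |>.mpr h
      rw [Ideal.iInf_pow_eq_bot_of_isLocalRing _ (IsLocalRing.maximalIdeal.isMaximal R).ne_top] at h2
      exact ha h2
    have h0 : 0 < Nat.find h := Nat.pos_of_ne_zero fun e => by
      have := Nat.find_spec h
      rw [e, pow_zero, Ideal.one_eq_top] at this
      exact this trivial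
    have h1 := not_not.mp (Nat.find_min h (Nat.sub_lt h0 Nat.one_pos))
    have h2 := Nat.find_spec h
    obtain ⟨N, hN⟩ : ∃ N, Nat.find h = N := ⟨_, rfl⟩
    rw [hN] at h0 h1 h2
    clear hN h
    rw [hm, Ideal.span_singleton_pow, Ideal.mem_span_singleton'] at h1 h2
    obtain ⟨v, hv⟩ := h1
    refine ⟨N - 1, v, ?_, by rw [← hv, mul_comm]⟩
    by_contra hv'
    have : v ∈ IsLocalRing.maximalIdeal R := hv'
    rw [hm, Ideal.mem_span_singleton'] at this
    obtain ⟨w, rfl⟩ := this
    refine h2 ⟨w, ?_⟩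
    rw [← hv, mul_assoc, ← pow_succ', Nat.sub_add_cancel h0]
  have hd : IsDomain R := by
    have : NoZeroDivisors R := ⟨fun {a b} h => by
      by_contra hne
      simp only [not_or] at hne
      obtain ⟨n, v, hv, rfl⟩ := key a hne.1
      obtain ⟨k, w, hw, rfl⟩ := key b hne.2
      have h2 : v * w * g ^ (n + k) = 0 := by rw [pow_add]; linear_combination h
      exact zero_ne_one ((mem_nonZeroDivisors_iff_right.mp (Submonoid.pow_mem _ hg (n + k))
        (1 : R) (by
          rw [one_mul]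
          exact (hv.mul hw).mul_right_eq_zero.mp h2)).symm)⟩
    exact NoZeroDivisors.to_isDomain R
  have hnf : ¬ IsField R := by
    rw [IsLocalRing.isField_iff_maximalIdeal_eq, hm, Ideal.span_singleton_eq_bot]
    exact nonZeroDivisors.ne_zero hg
  exact ⟨hd, ((IsDiscreteValuationRing.TFAE R hnf).out 4 0 rfl rfl).mp ⟨g, hm⟩⟩

/-- A nonzero ideal without embedded primes all of whose minimal primes have height one is
principal in a Noetherian unique factorisation domain. -/
theorem ideal_principal_of_height_one (R : Type*) [CommRing R] [IsDomain R] [IsNoetherianRing R]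
    [UniqueFactorizationMonoid R] (I : Ideal R)
    (h1 : ∀ p : Ideal R, p ∈ associatedPrimes R (R ⧸ I) → p ∈ I.minimalPrimes)
    (h2 : ∀ p : Ideal R, p ∈ I.minimalPrimes → p.height = 1) : ∃ f : R, I = Ideal.span {f} := by
  rcases eq_or_ne I ⊥ with rfl | hI
  · exact ⟨0, (Ideal.span_singleton_eq_bot.mpr rfl).symm⟩
  obtain ⟨J, ⟨d, hd⟩, hmax⟩ := set_has_maximal_iff_noetherian.mpr ‹IsNoetherian R R›
    {J : Ideal R | ∃ d, I = Ideal.span {d} * J} ⟨I, 1, by rw [Ideal.span_singleton_one, Ideal.top_mul]⟩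
  refine ⟨d, ?_⟩
  by_contra hne
  have hJ : J ≠ ⊤ := fun e => hne (by rw [hd, e, Ideal.mul_top])
  have hd0 : d ≠ 0 := fun e => hI (by rw [hd, e]; simp)
  have hdI : d ∉ I := fun h => by
    rw [hd, Ideal.mem_span_singleton_mul] at h
    obtain ⟨z, hz, hdz⟩ := h
    exact hJ ((Ideal.eq_top_iff_one J).mpr (mul_left_cancel₀ hd0 (hdz.trans (mul_one d).symm) ▸ hz))
  obtain ⟨p, hp, hpJ⟩ := exists_le_isAssociatedPrime_of_isNoetherianRing R
    (Ideal.Quotient.mk I d) (fun h => hdI (Ideal.Quotient.eq_zero_iff_mem.mp h))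
  have hJp : J ≤ p := fun j hj => hpJ (by
    rw [Submodule.mem_colon_singleton, Submodule.mem_bot, Algebra.smul_def,
      Ideal.Quotient.algebraMap_eq, ← map_mul, Ideal.Quotient.eq_zero_iff_mem, hd, mul_comm j d]
    exact Ideal.mul_mem_mul (Ideal.mem_span_singleton_self d) hj)
  have hmin := h1 p hp
  have : p.IsPrime := hmin.1.1
  have hpb : p ≠ ⊥ := fun e => by
    have := h2 p hmin
    rw [e, Ideal.height_bot] at this
    exact zero_ne_one this
  obtain ⟨π, hπp, hπ⟩ := this.exists_mem_prime_of_ne_bot hpb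
  have hπ' : (Ideal.span {π}).IsPrime := (Ideal.span_singleton_prime hπ.ne_zero).mpr hπ
  have hle : Ideal.span {π} ≤ p := (Ideal.span_singleton_le_iff_mem p).mpr hπp
  have hpe : p = Ideal.span {π} := by
    by_contra hne'
    have hlt := Ideal.height_strict_mono_of_isPrime (lt_of_le_of_ne hle (Ne.symm hne'))
    rw [h2 p hmin, Order.lt_one_iff, Ideal.height_eq_zero_iff, IsDomain.minimalPrimes_eq_singleton_bot,
      Set.mem_singleton_iff, Ideal.span_singleton_eq_bot] at hlt
    exact hπ.ne_zero hlt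
  let J' : Ideal R := Submodule.comap (LinearMap.mulLeft R π) J
  have hJ' : J = Ideal.span {π} * J' := by
    refine le_antisymm (fun j hj => ?_) (Ideal.span_singleton_mul_le_iff.mpr fun z hz => hz)
    obtain ⟨z, rfl⟩ := Ideal.mem_span_singleton'.mp (hpe ▸ hJp hj)
    refine Ideal.mem_span_singleton_mul.mpr ⟨z, ?_, mul_comm _ _⟩
    rw [Submodule.mem_comap, LinearMap.mulLeft_apply, mul_comm]
    exact hj
  have hJJ' : J ≤ J' := fun j hj => by
    rw [Submodule.mem_comap, LinearMap.mulLeft_apply]; exact Ideal.mul_mem_left J π hj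
  rcases eq_or_lt_of_le hJJ' with e | hlt
  · obtain ⟨r, hr, hr0⟩ := Submodule.exists_sub_one_mem_and_smul_eq_zero_of_fg_of_le_smul
      (Ideal.span {π}) J (IsNoetherian.noetherian J)
      (by rw [Ideal.smul_eq_mul]; exact le_of_eq (hJ'.trans (by rw [← e])))
    have hJb : J ≠ ⊥ := fun e' => hI (by rw [hd, e', Ideal.mul_bot])
    obtain ⟨z, hz, hz0⟩ := Submodule.exists_mem_ne_zero_of_ne_bot hJb
    have h := hr0 z hz
    rw [smul_eq_mul, mul_eq_zero, or_iff_left hz0] at h
    rw [h, zero_sub, neg_mem_iff] at hr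
    exact hπ'.ne_top ((Ideal.eq_top_iff_one _).mpr hr)
  · exact hmax J' ⟨d * π, by rw [← Ideal.span_singleton_mul_span_singleton, mul_assoc, ← hJ', ← hd]⟩ hlt

end Algebra

variable {X Y : Scheme.{u}}

theorem isPrime_minimal_of_maximal_support {I : X.IdealSheafData} {W : X.affineOpens} {x : X}
    (hxW : x ∈ W.1) (hx : x ∈ I.support) (hmax : ∀ y ∈ I.support, y ⤳ x → y = x) :
    (W.2.primeIdealOf ⟨x, hxW⟩).asIdeal ∈ (I.ideal W).minimalPrimes := by
  have hW : IsAffineOpen W.1 := W.2
  have key : ∀ q : PrimeSpectrum Γ(X, W.1), hW.fromSpec q ∈ I.support ↔ I.ideal W ≤ q.asIdeal := by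
    intro q
    have hq : hW.fromSpec q ∈ W.1 := hW.opensRange_fromSpec.le ⟨q, rfl⟩
    rw [Scheme.IdealSheafData.mem_support_iff_of_mem hq]
    have h2 := Set.ext_iff.mp (hW.fromSpec_preimage_zeroLocus (I.ideal W : Set Γ(X, W.1))) q
    exact h2
  refine ⟨⟨(hW.primeIdealOf ⟨x, hxW⟩).2, ?_⟩, fun q hq hqp => ?_⟩
  · rw [← key, hW.fromSpec_primeIdealOf]; exact hx
  · let q' : PrimeSpectrum Γ(X, W.1) := ⟨q, hq.1⟩
    have h2 := ((PrimeSpectrum.le_iff_specializes q' _).mp hqp).map hW.fromSpec.continuous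
    rw [hW.fromSpec_primeIdealOf] at h2
    have e : q' = hW.primeIdealOf ⟨x, hxW⟩ := by
      apply hW.fromSpec.isOpenEmbedding.injective
      exact (hmax _ ((key q').mpr hq.2) h2).trans (hW.fromSpec_primeIdealOf ⟨x, hxW⟩).symm
    exact (congrArg PrimeSpectrum.asIdeal e).ge

theorem ringKrullDim_stalk_eq_height {W : X.Opens} (hW : IsAffineOpen W) {x : X} (hx : x ∈ W) :
    ringKrullDim (X.presheaf.stalk x) = ((hW.primeIdealOf ⟨x, hx⟩).asIdeal.height : WithBot ℕ∞) := by
  let _ := TopCat.Presheaf.algebra_section_stalk X.presheaf ⟨x, hx⟩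
  have := hW.isLocalization_stalk ⟨x, hx⟩
  exact IsLocalization.AtPrime.ringKrullDim_eq_height _ _

theorem dim_stalk_le_one_of_maximal_support [IsLocallyNoetherian X] {D : X.IdealSheafData}
    (hD : Curv2.IsLocPrincipal D) {x : X} (hx : x ∈ D.support)
    (hmax : ∀ y ∈ D.support, y ⤳ x → y = x) : ringKrullDim (X.presheaf.stalk x) ≤ 1 := by
  obtain ⟨W, hxW, f, hf⟩ := hD x hx
  have : IsNoetherianRing Γ(X, W.1) := IsLocallyNoetherian.component_noetherian W
  have : (D.ideal W).IsPrincipal := hf ▸ ⟨f, rfl⟩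
  rw [ringKrullDim_stalk_eq_height W.2 hxW]
  exact_mod_cast Ideal.height_le_one_of_isPrincipal_of_mem_minimalPrimes _ _
    (isPrime_minimal_of_maximal_support hxW hx hmax)

theorem dim_stalk_eq_one_of_maximal_support [IsLocallyNoetherian X] {D : X.IdealSheafData}
    (hD : BlowUp.IsEffCartierIdeal D) {x : X} (hx : x ∈ D.support)
    (hmax : ∀ y ∈ D.support, y ⤳ x → y = x) : ringKrullDim (X.presheaf.stalk x) = 1 := by
  refine le_antisymm (dim_stalk_le_one_of_maximal_support (isLocPrincipal_of_isEffCartier hD) hx hmax) ?_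
  obtain ⟨⟨W, hW'⟩, hxW, -⟩ := exists_affine_le x ⊤ trivial
  have hW : IsAffineOpen W := hW'
  rw [ringKrullDim_stalk_eq_height hW hxW]
  have : (hW.primeIdealOf ⟨x, hxW⟩).asIdeal.height ≠ 0 := fun h0 =>
    not_mem_support_of_maximal hD
      ((primeIdealOf_minimal_iff hW hxW).mp (Ideal.height_eq_zero_iff.mp h0)) hx
  exact_mod_cast Order.one_le_iff_pos.mpr (pos_iff_ne_zero.mpr this)

theorem dvr_of_isReduced_subscheme [IsLocallyNoetherian X] {D : X.IdealSheafData}
    (hD : BlowUp.IsEffCartierIdeal D) [IsReduced D.subscheme] {ξ : X}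
    (hξ : IsGenericPoint ξ (D.support : Set X)) :
    ∃ _ : IsDomain (X.presheaf.stalk ξ), IsDiscreteValuationRing (X.presheaf.stalk ξ) := by
  have hmem : ξ ∈ D.support := hξ.mem
  obtain ⟨W, hxW, -, g, hg, hgD⟩ := exists_generator hD ξ ⊤ trivial
  have : IsNoetherianRing Γ(X, W.1) := IsLocallyNoetherian.component_noetherian W
  let p := (W.2.primeIdealOf ⟨ξ, hxW⟩).asIdeal
  have hmin := isPrime_minimal_of_maximal_support hxW hmem fun y hy h =>
    (h.antisymm (hξ.specializes hy)).eq
  have hrad : (D.ideal W).IsRadical := by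
    rw [Ideal.isRadical_iff_quotient_reduced]
    exact isReduced_of_injective (D.subschemeObjIso W).inv.hom
      (D.subschemeObjIso W).symm.commRingCatIsoToRingEquiv.injective
  have huniq : D.ideal W = p := by
    refine le_antisymm hmin.1.2 ?_
    rw [← hrad.radical, Ideal.radical_eq_sInf]
    refine le_sInf fun q hq => ?_
    obtain ⟨hq1, hq2⟩ := hq
    let q' : PrimeSpectrum Γ(X, W.1) := ⟨q, hq2⟩
    have hqW : W.2.fromSpec q' ∈ W.1 := W.2.opensRange_fromSpec.le ⟨q', rfl⟩
    have hqs : W.2.fromSpec q' ∈ D.support := by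
      rw [Scheme.IdealSheafData.mem_support_iff_of_mem hqW]
      exact (Set.ext_iff.mp (W.2.fromSpec_preimage_zeroLocus _) q').mpr hq1
    have h := hξ.specializes hqs
    refine (PrimeSpectrum.le_iff_specializes (W.2.primeIdealOf ⟨ξ, hxW⟩) q').mpr
      ((IsAffineOpen.fromSpec (show IsAffineOpen W.1 from W.2)).isOpenEmbedding.isInducing.specializes_iff.mp ?_)
    rw [W.2.fromSpec_primeIdealOf]
    exact h
  let _ := TopCat.Presheaf.algebra_section_stalk X.presheaf ⟨ξ, hxW⟩
  have := W.2.isLocalization_stalk ⟨ξ, hxW⟩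
  have hgz : X.presheaf.germ W.1 ξ hxW g ∈ nonZeroDivisors (X.presheaf.stalk ξ) := hg ξ hxW
  refine exists_domain_dvr_of_maximalIdeal_span _ hgz ?_
  rw [← IsLocalization.AtPrime.map_eq_maximalIdeal p (X.presheaf.stalk ξ), ← huniq, hgD,
    Ideal.map_span, Set.image_singleton]
  rfl

theorem isEffCartierIdeal_of_stalk [IsLocallyNoetherian X] (D : X.IdealSheafData)
    (h : ∀ x ∈ D.support, ∀ (U : X.affineOpens) (hx : x ∈ (U : X.Opens)),
      ∃ g : X.presheaf.stalk x, g ∈ nonZeroDivisors (X.presheaf.stalk x) ∧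
        (D.ideal U).map (X.presheaf.germ U x hx).hom = Ideal.span {g}) :
    BlowUp.IsEffCartierIdeal D := by
  intro x
  obtain ⟨U, hxU, -⟩ := exists_affine_le x ⊤ trivial
  obtain ⟨g, hg, hgI⟩ : ∃ g : X.presheaf.stalk x, g ∈ nonZeroDivisors (X.presheaf.stalk x) ∧
      (D.ideal U).map (X.presheaf.germ U.1 x hxU).hom = Ideal.span {g} := by
    by_cases hx : x ∈ D.support
    · exact h x hx U hxU
    · refine ⟨1, Submonoid.one_mem _, ?_⟩
      rw [Scheme.IdealSheafData.mem_support_iff_of_mem hxU, Scheme.mem_zeroLocus_iff] at hx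
      simp only [not_forall, not_not] at hx
      obtain ⟨a, ha, hax⟩ := hx
      rw [Ideal.span_singleton_one]
      exact Ideal.eq_top_of_isUnit_mem _ (Ideal.mem_map_of_mem _ ha)
        ((X.mem_basicOpen a x hxU).mp hax)
  have : IsNoetherianRing Γ(X, U.1) := IsLocallyNoetherian.component_noetherian U
  let _ := TopCat.Presheaf.algebra_section_stalk X.presheaf ⟨x, hxU⟩
  have := U.2.isLocalization_stalk ⟨x, hxU⟩
  obtain ⟨s, hs, a, ha, hgen, hnz⟩ :=
    exists_local_generator (D.ideal U) (U.2.primeIdealOf ⟨x, hxU⟩).asIdeal (X.presheaf.stalk x) hg hgI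
  refine ⟨X.affineBasicOpen s,
    (X.mem_basicOpen s x hxU).mpr ((isUnit_germ_iff U.2 hxU s).mpr hs),
    X.presheaf.map (homOfLE (X.basicOpen_le s)).op a, ?_, ?_⟩
  · change X.presheaf.map (homOfLE (X.basicOpen_le s)).op a ∈ nonZeroDivisors Γ(X, X.basicOpen s)
    have hloc := U.2.isLocalization_basicOpen s
    rw [mem_nonZeroDivisors_iff_right]
    intro b hb
    obtain ⟨b₁, d, rfl⟩ := IsLocalization.exists_mk'_eq (Submonoid.powers s) b
    change _ * algebraMap Γ(X, U.1) Γ(X, X.basicOpen s) a = 0 at hb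
    rw [← IsLocalization.mk'_one (M := Submonoid.powers s) Γ(X, X.basicOpen s) a,
      ← IsLocalization.mk'_mul, IsLocalization.mk'_eq_zero_iff] at hb
    obtain ⟨⟨_, n, rfl⟩, hn⟩ := hb
    rw [IsLocalization.mk'_eq_zero_iff]
    refine ⟨⟨s ^ (n + 1), n + 1, rfl⟩, ?_⟩
    have h2 := hnz (s ^ n * b₁) (by rw [mul_assoc]; exact hn)
    change s ^ (n + 1) * b₁ = 0
    rw [pow_succ', mul_assoc]; exact h2
  · rw [← D.map_ideal_basicOpen U s]
    refine le_antisymm (Ideal.map_le_iff_le_comap.mpr fun i hi => ?_)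
      ((Ideal.span_singleton_le_iff_mem _).mpr (Ideal.mem_map_of_mem _ ha))
    obtain ⟨c, hc⟩ := hgen i hi
    refine Ideal.mem_comap.mpr (Ideal.mem_span_singleton'.mpr ?_)
    have hsu : IsUnit (X.presheaf.map (homOfLE (X.basicOpen_le s)).op s) :=
      RingedSpace.isUnit_res_basicOpen _ s
    refine ⟨↑hsu.unit⁻¹ * X.presheaf.map (homOfLE (X.basicOpen_le s)).op c, ?_⟩
    erw [mul_assoc, ← map_mul, ← hc, map_mul, ← mul_assoc, IsUnit.val_inv_mul, one_mul]

theorem exists_over_generic [IsIntegral Y] (f : X ⟶ Y) [Flat f] (x : X) :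
    ∃ y : X, y ⤳ x ∧ f y = genericPoint ↥Y :=
  Flat.generalizingMap f (genericPoint_specializes (f x))

theorem isIntegral_of_flat_fiber [IsIntegral Y] (f : X ⟶ Y) [Flat f]
    (h : IsIntegral (f.fiber (genericPoint ↥Y))) : IsIntegral X := by
  obtain ⟨z⟩ := (inferInstance : Nonempty ↥(f.fiber (genericPoint ↥Y)))
  have : Nonempty X := ⟨f.fiberι (genericPoint ↥Y) z⟩
  have : IrreducibleSpace X := by
    have h0 : IsPreirreducible (Set.univ : Set ↥(f.fiber (genericPoint ↥Y))) :=
      PreirreducibleSpace.isPreirreducible_univ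
    have hd : closure (f.fiberι (genericPoint ↥Y) '' Set.univ) = Set.univ := by
      rw [Set.image_univ, f.range_fiberι, Set.eq_univ_iff_forall]
      intro x
      obtain ⟨y, hy, hye⟩ := exists_over_generic f x
      exact hy.mem_closed isClosed_closure (subset_closure hye)
    have h1 := (h0.image _ (f.fiberι (genericPoint ↥Y)).continuous.continuousOn).closure
    rw [hd] at h1
    exact { isPreirreducible_univ := h1, toNonempty := inferInstance }
  have : IsReduced X := by
    have hY : ∀ (V : Y.Opens), IsAffineOpen V → ∀ (U : X.Opens) (hU : IsAffineOpen U)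
        (hUV : U ≤ f ⁻¹ᵁ V) (a : Γ(Y, V)), a ≠ 0 → f.appLE V U hUV a ∈ nonZeroDivisors Γ(X, U) := by
      intro V hV U hU hUV a ha
      by_cases hVe : Nonempty V
      · exact mem_nonZeroDivisors_of_flat (f.appLE V U hUV).hom (Flat.flat_appLE f hV hU hUV)
          (mem_nonZeroDivisors_of_ne_zero ha)
      · exfalso
        refine ha (TopCat.Presheaf.section_ext ⟨Y.presheaf, Y.sheaf.2⟩ _ _ 0 fun y hy => ?_)
        exact absurd ⟨⟨y, hy⟩⟩ hVe
    refine ⟨fun U => ⟨fun s hs => ?_⟩⟩
    refine eq_zero_of_germ_weakAss_structure s fun x hx hwa => ?_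
    have hfx : f x = genericPoint ↥Y := by
      obtain ⟨⟨V, hV'⟩, hxV, -⟩ := exists_affine_le (f x) ⊤ trivial
      dsimp only at hxV
      have hV : IsAffineOpen V := hV'
      obtain ⟨⟨U₁, hU'⟩, hxU, hle⟩ := exists_affine_le x (f ⁻¹ᵁ V) hxV
      dsimp only at hxU hle
      have hU : IsAffineOpen U₁ := hU'
      have hp := (isWeakAssPoint_iff_weakAss (isQCoh_structureModule X) hU hxU).mp hwa
      obtain ⟨-, m, hm1, hm2⟩ := Calg5.mem_weakAss_iff.mp hp
      have hne : Nonempty V := ⟨⟨f x, hxV⟩⟩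
      have hbot : (hV.primeIdealOf ⟨f x, hxV⟩).asIdeal = ⊥ := by
        rw [← IsAffineOpen.comap_primeIdealOf_appLE V hV U₁ hU hle hxU, eq_bot_iff]
        intro a ha
        by_contra hane
        obtain ⟨t, ht, n, hn⟩ := hm2 _ ha
        have hn' : (t * f.appLE V U₁ hle a ^ n) * (show Γ(X, U₁) from m) = 0 := hn
        have h2 : t * (show Γ(X, U₁) from m) = 0 :=
          mem_nonZeroDivisors_iff_right.mp (Submonoid.pow_mem _ (hY V hV U₁ hU hle a hane) n) _
            (by rw [← hn']; ring)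
        exact ht (hm1 t h2)
      have hgv : genericPoint ↥Y ∈ V :=
        (genericPoint_specializes (f x)).mem_open V.2 hxV
      have e1 : hV.primeIdealOf ⟨f x, hxV⟩ ≤ hV.primeIdealOf ⟨genericPoint ↥Y, hgv⟩ := by
        change (hV.primeIdealOf ⟨f x, hxV⟩).asIdeal ≤ _
        rw [hbot]; exact bot_le
      have e2 := ((PrimeSpectrum.le_iff_specializes _ _).mp e1).map hV.fromSpec.continuous
      rw [hV.fromSpec_primeIdealOf, hV.fromSpec_primeIdealOf] at e2
      exact (e2.antisymm (genericPoint_specializes (f x))).eq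
    -- the stalk of `X` at a point over the generic point is the stalk of the generic fibre
    obtain ⟨w, hw⟩ : x ∈ Set.range (f.fiberι (genericPoint ↥Y)) := by
      rw [f.range_fiberι]; exact hfx
    subst hw
    have hflat : Flat (f.fiberι (genericPoint ↥Y)) := by
      have : Flat (Y.fromSpecResidueField (genericPoint ↥Y)) := by
        have hf : IsField (Y.presheaf.stalk (genericPoint ↥Y)) := Field.toIsField Y.functionField
        have : IsIso (Y.residue (genericPoint ↥Y)) :=
          (ConcreteCategory.isIso_iff_bijective _).mpr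
            ⟨(RingHom.injective_iff_ker_eq_bot _).mpr
              ((IsLocalRing.ker_residue).trans (IsLocalRing.isField_iff_maximalIdeal_eq.mp hf)),
              Ideal.Quotient.mk_surjective⟩
        have h2 : Flat (Y.fromSpecStalk (genericPoint ↥Y)) := by
          obtain ⟨⟨V, hV'⟩, hxV, -⟩ := exists_affine_le (genericPoint ↥Y) ⊤ trivial
          have hV : IsAffineOpen V := hV'
          rw [← hV.fromSpecStalk_eq_fromSpecStalk hxV, IsAffineOpen.fromSpecStalk]
          have : Flat (Spec.map (Y.presheaf.germ V (genericPoint ↥Y) hxV)) := by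
            rw [HasRingHomProperty.Spec_iff (P := @Flat)]
            let _ := TopCat.Presheaf.algebra_section_stalk Y.presheaf ⟨_, hxV⟩
            have := hV.isLocalization_stalk ⟨_, hxV⟩
            have hflat : Module.Flat Γ(Y, V) (Y.presheaf.stalk (genericPoint ↥Y)) :=
              IsLocalization.flat _ (hV.primeIdealOf ⟨_, hxV⟩).asIdeal.primeCompl
            exact RingHom.flat_algebraMap_iff.mpr hflat
          exact MorphismProperty.comp_mem _ _ _ this inferInstance
        rw [Scheme.fromSpecResidueField]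
        exact MorphismProperty.comp_mem _ _ _ inferInstance h2
      have hsb : MorphismProperty.IsStableUnderBaseChange @Flat := inferInstance
      exact MorphismProperty.IsStableUnderBaseChange.of_isPullback (P := @Flat) (IsPullback.of_hasPullback f (Y.fromSpecResidueField (genericPoint ↥Y))).flip this
    have hinj : Function.Injective ((f.fiberι (genericPoint ↥Y)).stalkMap w) := by
      algebraize [((f.fiberι (genericPoint ↥Y)).stalkMap w).hom]
      have : Module.Flat (X.presheaf.stalk (f.fiberι (genericPoint ↥Y) w))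
          ((f.fiber (genericPoint ↥Y)).presheaf.stalk w) := Flat.stalkMap _ w
      have : IsLocalHom (algebraMap (X.presheaf.stalk (f.fiberι (genericPoint ↥Y) w))
          ((f.fiber (genericPoint ↥Y)).presheaf.stalk w)) :=
        inferInstanceAs (IsLocalHom ((f.fiberι (genericPoint ↥Y)).stalkMap w).hom)
      have := Module.FaithfullyFlat.of_flat_of_isLocalHom
        (A := X.presheaf.stalk (f.fiberι (genericPoint ↥Y) w))
        (B := (f.fiber (genericPoint ↥Y)).presheaf.stalk w)
      exact FaithfulSMul.algebraMap_injective _ _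
    refine hinj ?_
    rw [map_zero]
    exact ((hs.map (X.presheaf.germ U _ hx).hom).map
      ((f.fiberι (genericPoint ↥Y)).stalkMap w).hom).eq_zero
  exact isIntegral_of_irreducibleSpace_of_isReduced X

end Groth.Divisors
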