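/-
Weakly associated points: short exact sequences, monomorphisms and direct images.
-/
import Groth.Agent.Divisors.Assoc
import Groth.Agent.CohTwo.Glue
import Mathlib.AlgebraicGeometry.Morphisms.Finite
import Mathlib.AlgebraicGeometry.Morphisms.QuasiFinite

universe u

open CategoryTheory CategoryTheory.Limits AlgebraicGeometry TopologicalSpace Opposite

namespace Groth.Divisors

variable {X S : Scheme.{u}}

theorem app_germ {F G : X.Modules} (φ : F ⟶ G) {W : X.Opens} (x : X) (hx : x ∈ W) (s : Γ(F, W)) :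
    ((TopCat.Presheaf.stalkFunctor AddCommGrpCat.{u} x).map (Scheme.Modules.Hom.mapPresheaf φ))
      (F.presheaf.germ W x hx s) = G.presheaf.germ W x hx (φ.app W s) :=
  TopCat.Presheaf.stalkFunctor_map_germ_apply W x hx φ.mapPresheaf s

theorem mono_of_stalk_injective_off {F G : X.Modules} (φ : F ⟶ G) (hF : Coh.IsQCoh F)
    (h : ∀ x : X, Function.Injective
      ((TopCat.Presheaf.stalkFunctor AddCommGrpCat.{u} x).map (Scheme.Modules.Hom.mapPresheaf φ)) ∨
      ¬ Curv2.IsWeakAssPoint F x) : Mono φ := by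
  rw [CohTwo.mono_iff_app_injective]
  intro W
  refine (injective_iff_map_eq_zero (φ.app W).hom).mpr fun s hs => ?_
  refine eq_zero_of_germ_weakAss hF s fun x hx hwa => ?_
  refine (h x).resolve_right (not_not.mpr hwa) ?_
  refine ((app_germ φ x hx s).trans ?_).trans (map_zero _).symm
  have hs' : φ.app W s = 0 := hs
  rw [hs', map_zero]
  rfl

/-- The sections functor on an open. -/
noncomputable abbrev secFunctor (W : X.Opens) : X.Modules ⥤ AddCommGrpCat.{u} :=
  Scheme.Modules.toPresheaf X ⋙ (evaluation _ _).obj (op W)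

instance (W : X.Opens) : (secFunctor W).PreservesZeroMorphisms where
  map_zero _ _ := rfl

theorem exists_preimage_of_shortExact (C : ShortComplex X.Modules) (hC : C.ShortExact)
    (W : X.Opens) (s : Γ(C.X₂, W)) (hs : C.g.app W s = 0) : ∃ t : Γ(C.X₁, W), C.f.app W t = s := by
  have := hC.mono_f
  have hev : PreservesLimit (parallelPair C.g 0 ⋙ Scheme.Modules.toPresheaf X)
      ((evaluation (X.Opens)ᵒᵖ AddCommGrpCat.{u}).obj (op W)) := by
    have := evaluation_preservesLimitsOfShape (K := (X.Opens)ᵒᵖ) (J := WalkingParallelPair)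
      (C := AddCommGrpCat.{u}) (op W)
    exact this.preservesLimit
  have hlim : PreservesLimit (parallelPair C.g 0) (secFunctor W) :=
    comp_preservesLimit _ _
  have hex : (C.map (secFunctor W)).Exact := by
    refine (C.map (secFunctor W)).exact_of_f_is_kernel ?_
    exact KernelFork.mapIsLimit _ hC.fIsKernel (secFunctor W)
  exact (ShortComplex.ab_exact_iff _).mp hex s hs

theorem weakAss_subset_of_shortExact (C : ShortComplex X.Modules) (hC : C.ShortExact)
    (h₁ : Coh.IsQCoh C.X₁) (h₂ : Coh.IsQCoh C.X₂) (h₃ : Coh.IsQCoh C.X₃) (x : X) :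
    (Curv2.IsWeakAssPoint C.X₂ x → Curv2.IsWeakAssPoint C.X₁ x ∨ Curv2.IsWeakAssPoint C.X₃ x) ∧
      (Curv2.IsWeakAssPoint C.X₁ x → Curv2.IsWeakAssPoint C.X₂ x) := by
  obtain ⟨⟨U, hU'⟩, hxU, -⟩ := exists_affine_le x ⊤ trivial
  dsimp only at hxU
  have hU : IsAffineOpen U := hU'
  rw [isWeakAssPoint_iff_weakAss h₁ hU hxU, isWeakAssPoint_iff_weakAss h₂ hU hxU,
    isWeakAssPoint_iff_weakAss h₃ hU hxU]
  let f : Γ(C.X₁, U) →ₗ[Γ(X, U)] Γ(C.X₂, U) :=
    { toFun := C.f.app U, map_add' := map_add _, map_smul' := fun r m => C.f.app_smul r m }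
  let g : Γ(C.X₂, U) →ₗ[Γ(X, U)] Γ(C.X₃, U) :=
    { toFun := C.g.app U, map_add' := map_add _, map_smul' := fun r m => C.g.app_smul r m }
  have hf : Function.Injective f := by
    have := hC.mono_f
    exact CohTwo.app_injective C.f U
  have hfg : Function.Exact f g := by
    intro s
    constructor
    · exact fun hs => exists_preimage_of_shortExact C hC U s hs
    · rintro ⟨t, rfl⟩
      change C.g.app U (C.f.app U t) = 0
      rw [← ConcreteCategory.comp_apply, ← Scheme.Modules.Hom.comp_app, C.zero]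
      rfl
  exact ⟨fun hp => Calg5.weakAss_subset_union f g hf hfg hp,
    fun hp => Calg5.weakAss_subset_of_injective f hf hp⟩

section Push

variable (f : X ⟶ S) {F : X.Modules}

theorem push_germ_eq_zero_iff {W : S.Opens} {s : S} (hs : s ∈ W) (m : Γ(F, f ⁻¹ᵁ W)) :
    ((Scheme.Modules.pushforward f).obj F).presheaf.germ W s hs m = 0 ↔
      ∃ (W' : S.Opens) (h : W' ≤ W), s ∈ W' ∧
        F.presheaf.map (homOfLE (f.preimage_mono h)).op m = 0 := by
  constructor
  · intro h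
    rw [← map_zero (((Scheme.Modules.pushforward f).obj F).presheaf.germ W s hs).hom] at h
    obtain ⟨W', hsW', i, j, he⟩ := ((Scheme.Modules.pushforward f).obj F).presheaf.germ_eq s _ _ _ _ h
    rw [map_zero] at he
    exact ⟨W', i.le, hsW', he⟩
  · rintro ⟨W', h, hs', h0⟩
    have : ((Scheme.Modules.pushforward f).obj F).presheaf.map (homOfLE h).op m = 0 := h0
    rw [← TopCat.Presheaf.germ_res_apply ((Scheme.Modules.pushforward f).obj F).presheaf
      (homOfLE h) s hs' m, this, map_zero]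

theorem germ_appLE (F : X.Modules) {W : S.Opens} {V : X.Opens} (hV : V ≤ f ⁻¹ᵁ W) (a : Γ(S, W))
    (m : Γ(F, f ⁻¹ᵁ W)) {x : X} (hx : x ∈ V) :
    F.presheaf.germ (f ⁻¹ᵁ W) x (hV hx) (f.app W a • m) =
      X.presheaf.germ V x hx (f.appLE W V hV a) •
        F.presheaf.germ V x hx (F.presheaf.map (homOfLE hV).op m) := by
  rw [germ_smul_mod, Scheme.Hom.appLE, CommRingCat.comp_apply, TopCat.Presheaf.germ_res_apply,
    TopCat.Presheaf.germ_res_apply]

theorem push_smul_def {W : S.Opens} (a : Γ(S, W)) (m : Γ(F, f ⁻¹ᵁ W)) :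
    (a • (show Γ((Scheme.Modules.pushforward f).obj F, W) from m)) =
      (show Γ((Scheme.Modules.pushforward f).obj F, W) from f.app W a • m) := rfl

/-- At a proper generization of a weakly associated point `s` of the direct image, the witness has
zero germ. -/
theorem germ_eq_zero_of_ne {W : S.Opens} {s : S} (hs : s ∈ W) (hW : IsAffineOpen W)
    (m : Γ(F, f ⁻¹ᵁ W))
    (hz : IsWAGerm (F := (Scheme.Modules.pushforward f).obj F)
      (((Scheme.Modules.pushforward f).obj F).presheaf.germ W s hs m))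
    {x : X} (hsp : f x ⤳ s) (hne : f x ≠ s) :
    F.presheaf.germ (f ⁻¹ᵁ W) x (hsp.mem_open W.2 hs) m = 0 := by
  have hxW : f x ∈ W := hsp.mem_open W.2 hs
  obtain ⟨a, ha, hax⟩ : ∃ a, a ∈ (hW.primeIdealOf ⟨s, hs⟩).asIdeal ∧
      a ∉ (hW.primeIdealOf ⟨f x, hxW⟩).asIdeal := by
    refine SetLike.not_le_iff_exists.mp fun hle => hne ?_
    have h2 := ((PrimeSpectrum.le_iff_specializes (hW.primeIdealOf ⟨s, hs⟩) _).mp hle).map
      hW.fromSpec.continuous
    rw [hW.fromSpec_primeIdealOf, hW.fromSpec_primeIdealOf] at h2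
    exact (hsp.antisymm h2).eq
  obtain ⟨n, hn⟩ := hz.2 _ (fun hu => (isUnit_germ_iff hW hs a).mp hu ha)
  rw [← map_pow] at hn
  have hn' : ((Scheme.Modules.pushforward f).obj F).presheaf.germ W s hs (f.app W (a ^ n) • m) = 0 :=
    (germ_smul_mod hs ((Scheme.Modules.pushforward f).obj F) (a ^ n) m).trans hn
  obtain ⟨W', hle, hs', h0⟩ := (push_germ_eq_zero_iff f hs _).mp hn'
  have hx' : x ∈ f ⁻¹ᵁ W' := hsp.mem_open W'.2 hs'
  have h1 := congrArg (F.presheaf.germ (f ⁻¹ᵁ W') x hx').hom h0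
  erw [TopCat.Presheaf.germ_res_apply] at h1
  erw [map_zero, germ_smul_mod] at h1
  refine (IsUnit.smul_eq_zero ?_).mp h1
  rw [← Scheme.Hom.germ_stalkMap_apply f W x hxW]
  have hu : IsUnit (S.presheaf.germ W (f x) hxW (a ^ n)) := by
    rw [map_pow]; exact ((isUnit_germ_iff hW hxW a).mpr hax).pow n
  exact hu.map (f.stalkMap x).hom

variable (hF : Coh.IsQCoh F)

include hF in
/-- For an affine piece `V` over `W`, a witness of weak associatedness either vanishes on a
neighbourhood of `s`, or has nonzero germ at a point of `V` over a generization of `s`. -/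
theorem exists_unit_killing {W : S.Opens} {s : S} (hs : s ∈ W) (hW : IsAffineOpen W)
    {V : X.Opens} (hV : IsAffineOpen V) (hVW : V ≤ f ⁻¹ᵁ W) (m : Γ(F, f ⁻¹ᵁ W))
    (h : ∀ (x : X) (hx : x ∈ V), f x ⤳ s → F.presheaf.germ (f ⁻¹ᵁ W) x (hVW hx) m = 0) :
    ∃ c : Γ(S, W), IsUnit (S.presheaf.germ W s hs c) ∧
      f.appLE W V hVW c • F.presheaf.map (homOfLE hVW).op m = 0 := by
  let φ : Γ(S, W) →+* Γ(X, V) := (f.appLE W V hVW).hom
  let J : Ideal Γ(X, V) :=
    (Submodule.span Γ(X, V) {F.presheaf.map (homOfLE hVW).op m}).annihilator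
  by_contra hne
  simp only [not_exists, not_and] at hne
  have hle : J.comap φ ≤ (hW.primeIdealOf ⟨s, hs⟩).asIdeal := by
    intro c hc
    by_contra hcp
    exact hne c ((isUnit_germ_iff hW hs c).mpr hcp) (Calg5.mem_ann.mp hc)
  have hdisj : Disjoint (J : Set Γ(X, V))
      ↑((hW.primeIdealOf ⟨s, hs⟩).asIdeal.primeCompl.map φ.toMonoidHom) := by
    rw [Set.disjoint_left]
    rintro _ hr ⟨c, hc, rfl⟩
    exact hc (hle hr)
  obtain ⟨q, hq, hJq, hqd⟩ := Ideal.exists_le_prime_disjoint J _ hdisj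
  let q' : PrimeSpectrum Γ(X, V) := ⟨q, hq⟩
  have hxV : hV.fromSpec q' ∈ V := by
    have h' : hV.fromSpec q' ∈ hV.fromSpec.opensRange := ⟨q', rfl⟩
    exact hV.opensRange_fromSpec.le h'
  have e : hV.primeIdealOf ⟨hV.fromSpec q', hxV⟩ = q' := by
    apply hV.fromSpec.isOpenEmbedding.injective
    exact hV.fromSpec_primeIdealOf ⟨_, hxV⟩
  have hsp : f (hV.fromSpec q') ⤳ s := by
    have hle2 : hW.primeIdealOf ⟨f (hV.fromSpec q'), hVW hxV⟩ ≤ hW.primeIdealOf ⟨s, hs⟩ := by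
      rw [← IsAffineOpen.comap_primeIdealOf_appLE W hW V hV hVW hxV, e]
      intro c hc
      by_contra hcp
      exact Set.disjoint_left.mp hqd hc ⟨c, hcp, rfl⟩
    have h2 := ((PrimeSpectrum.le_iff_specializes _ _).mp hle2).map hW.fromSpec.continuous
    rwa [hW.fromSpec_primeIdealOf, hW.fromSpec_primeIdealOf] at h2
  have h0 : F.presheaf.germ V _ hxV (F.presheaf.map (homOfLE hVW).op m) = 0 := by
    rw [TopCat.Presheaf.germ_res_apply]; exact h _ hxV hsp
  obtain ⟨r, hr, hr0⟩ := (germ_eq_zero_iff hV hxV hF _).mp h0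
  have := (isUnit_germ_iff hV hxV r).mp hr
  rw [e] at this
  exact this (hJq (Calg5.mem_ann.mpr hr0))

include hF in
/-- The witness of a weakly associated point of a quasi-compact direct image has nonzero germ
somewhere in the fibre. -/
theorem exists_fibre_germ_ne_zero [QuasiCompact f] {W : S.Opens} {s : S} (hs : s ∈ W)
    (hW : IsAffineOpen W) (m : Γ(F, f ⁻¹ᵁ W))
    (hz : IsWAGerm (F := (Scheme.Modules.pushforward f).obj F)
      (((Scheme.Modules.pushforward f).obj F).presheaf.germ W s hs m)) :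
    ∃ (x : X) (hx : f x = s), F.presheaf.germ (f ⁻¹ᵁ W) x (show f x ∈ W from hx ▸ hs) m ≠ 0 := by
  by_contra hne
  simp only [not_exists, not_not] at hne
  have hcpt : IsCompact ((f ⁻¹ᵁ W : X.Opens) : Set X) :=
    QuasiCompact.isCompact_preimage (W : Set S) W.2 hW.isCompact
  choose V hV hVW using fun x : (f ⁻¹ᵁ W : X.Opens) => exists_affine_le x.1 (f ⁻¹ᵁ W) x.2
  obtain ⟨T, hT⟩ := hcpt.elim_finite_subcover (fun x => ((V x).1 : Set X)) (fun x => (V x).1.2)
    (fun x hx => Set.mem_iUnion.mpr ⟨⟨x, hx⟩, hV ⟨x, hx⟩⟩)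
  choose c hc hc0 using fun x : (f ⁻¹ᵁ W : X.Opens) =>
    exists_unit_killing f hF hs hW (V x).2 (hVW x) m fun y hy hsp => by
      by_cases hys : f y = s
      · exact hne y hys
      · exact germ_eq_zero_of_ne f hs hW m hz hsp hys
  have hu : IsUnit (S.presheaf.germ W s hs (∏ x ∈ T, c x)) := by
    rw [map_prod]; exact IsUnit.prod_iff.mpr fun x _ => hc x
  refine hz.1 _ ?_ hu
  refine (germ_smul_mod hs ((Scheme.Modules.pushforward f).obj F) (∏ x ∈ T, c x) m).symm.trans ?_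
  rw [push_smul_def]
  have h0 : f.app W (∏ x ∈ T, c x) • m = 0 := by
    refine TopCat.Presheaf.section_ext ⟨F.presheaf, F.isSheaf⟩ _ _ 0 fun y hy => ?_
    erw [map_zero]
    obtain ⟨x, hxT, hyx⟩ : ∃ x ∈ T, y ∈ (V x).1 := by simpa using hT hy
    have h1 := congrArg (F.presheaf.germ (V x).1 y hyx).hom (hc0 x)
    erw [map_zero, germ_smul_mod] at h1
    classical
    change F.presheaf.germ (f ⁻¹ᵁ W) y hy (f.app W (∏ x ∈ T, c x) • m) = 0
    rw [← Finset.prod_erase_mul T c hxT]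
    erw [germ_appLE f F (hVW x) _ m hyx]
    rw [map_mul, map_mul, mul_smul, h1, smul_zero]
  exact (congrArg (((Scheme.Modules.pushforward f).obj F).presheaf.germ W s hs).hom
    (show (show Γ((Scheme.Modules.pushforward f).obj F, W) from f.app W (∏ x ∈ T, c x) • m) = 0
      from h0)).trans (map_zero _)

include hF in
theorem not_weakAss_push_of_not_mem_range [QuasiCompact f] {s : S} (hs : s ∉ Set.range f) :
    ¬ Curv2.IsWeakAssPoint ((Scheme.Modules.pushforward f).obj F) s := by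
  rw [isWeakAssPoint_iff]
  rintro ⟨z, hz⟩
  obtain ⟨W₀, hs₀, m₀, rfl⟩ :=
    TopCat.Presheaf.exists_germ_eq ((Scheme.Modules.pushforward f).obj F).presheaf z
  obtain ⟨⟨W, hW'⟩, hsW, hle⟩ := exists_affine_le s W₀ hs₀
  dsimp only at hsW hle
  rw [← TopCat.Presheaf.germ_res_apply ((Scheme.Modules.pushforward f).obj F).presheaf
    (homOfLE hle) s hsW] at hz
  obtain ⟨x, hx, -⟩ := exists_fibre_germ_ne_zero f hF hsW hW' _ hz
  exact hs ⟨x, hx⟩

include hF in
theorem exists_weakAss_of_push_affine [IsAffineHom f] {s : S}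
    (h : Curv2.IsWeakAssPoint ((Scheme.Modules.pushforward f).obj F) s) :
    ∃ x : X, f x = s ∧ Curv2.IsWeakAssPoint F x := by
  obtain ⟨z, hz⟩ := isWeakAssPoint_iff.mp h
  obtain ⟨W₀, hs₀, m₀, rfl⟩ :=
    TopCat.Presheaf.exists_germ_eq ((Scheme.Modules.pushforward f).obj F).presheaf z
  obtain ⟨⟨W, hW'⟩, hsW, hle⟩ := exists_affine_le s W₀ hs₀
  dsimp only at hsW hle
  rw [← TopCat.Presheaf.germ_res_apply ((Scheme.Modules.pushforward f).obj F).presheaf
    (homOfLE hle) s hsW] at hz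
  generalize hm : ((Scheme.Modules.pushforward f).obj F).presheaf.map (homOfLE hle).op m₀ = m at hz
  obtain ⟨x, hx, hne⟩ := exists_fibre_germ_ne_zero f hF hsW hW' m hz
  obtain ⟨y, hy, hsp, hwa, hy0⟩ := exists_weakAss_germ_ne_zero hF m
    (show f x ∈ W from hx ▸ hsW) hne
  have hys : f y ⤳ s := hx ▸ hsp.map f.continuous
  by_cases e : f y = s
  · exact ⟨y, e, hwa⟩
  · exact absurd (germ_eq_zero_of_ne f hsW hW' m hz hys e) hy0

include hF in
theorem weakAss_push_of_ass [IsAffineHom f] [IsLocallyNoetherian X] {x : X}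
    (hx : Curv2.IsWeakAssPoint F x) :
    Curv2.IsWeakAssPoint ((Scheme.Modules.pushforward f).obj F) (f x) := by
  obtain ⟨⟨W, hW'⟩, hsW, -⟩ := exists_affine_le (f x) ⊤ trivial
  dsimp only at hsW
  have hW : IsAffineOpen W := hW'
  have hV : IsAffineOpen (f ⁻¹ᵁ W) := hW.preimage f
  have hxV : x ∈ f ⁻¹ᵁ W := hsW
  have : IsNoetherianRing Γ(X, f ⁻¹ᵁ W) := IsLocallyNoetherian.component_noetherian ⟨_, hV⟩
  have hq := (isWeakAssPoint_iff_weakAss hF hV hxV).mp hx
  rw [Calg5.weakAss_eq_associatedPrimes] at hq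
  obtain ⟨hp, m, hm⟩ := isAssociatedPrime_iff.mp hq
  have hm' : ∀ r : Γ(X, f ⁻¹ᵁ W), r ∈ (hV.primeIdealOf ⟨x, hxV⟩).asIdeal ↔ r • m = 0 := fun r => by
    rw [hm, Submodule.mem_colon_singleton]; rfl
  rw [isWeakAssPoint_iff]
  refine ⟨((Scheme.Modules.pushforward f).obj F).presheaf.germ W (f x) hsW m, ?_, ?_⟩
  · intro a ha hu
    obtain ⟨W', hle, hs', h0⟩ := (push_germ_eq_zero_iff f hsW m).mp (hu.smul_eq_zero.mp ha)
    have hx' : x ∈ f ⁻¹ᵁ W' := hs'
    have h1 := congrArg (F.presheaf.germ (f ⁻¹ᵁ W') x hx').hom h0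
    erw [TopCat.Presheaf.germ_res_apply] at h1
    erw [map_zero] at h1
    obtain ⟨c, hc, hc0⟩ := (germ_eq_zero_iff hV hxV hF m).mp h1
    exact (isUnit_germ_iff hV hxV c).mp hc ((hm' c).mpr hc0)
  · intro a ha
    obtain ⟨r, c, hc, hac⟩ := exists_germ_mul_eq hW hsW a
    refine ⟨1, ?_⟩
    rw [pow_one]
    refine hc.smul_eq_zero.mp ?_
    rw [smul_smul, mul_comm, hac]
    refine (germ_smul_mod hsW ((Scheme.Modules.pushforward f).obj F) r m).symm.trans ?_
    rw [push_smul_def]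
    have h0 : f.app W r • m = 0 := by
      refine (hm' _).mp ?_
      have hr : r ∈ (hW.primeIdealOf ⟨f x, hsW⟩).asIdeal := by
        by_contra hrp
        exact ha (isUnit_of_mul_isUnit_left (hac ▸ (isUnit_germ_iff hW hsW r).mpr hrp))
      rw [← IsAffineOpen.comap_primeIdealOf_appLE W hW (f ⁻¹ᵁ W) hV le_rfl hxV] at hr
      rw [← Scheme.Hom.appLE_eq_app]
      exact hr
    exact (congrArg (((Scheme.Modules.pushforward f).obj F).presheaf.germ W (f x) hsW).hom
      (show (show Γ((Scheme.Modules.pushforward f).obj F, W) from f.app W r • m) = 0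
        from h0)).trans (map_zero _)

include hF in
theorem weakAss_push_of_finite [IsFinite f] {x : X} (hx : Curv2.IsWeakAssPoint F x) :
    Curv2.IsWeakAssPoint ((Scheme.Modules.pushforward f).obj F) (f x) := by
  obtain ⟨⟨W, hW'⟩, hsW, -⟩ := exists_affine_le (f x) ⊤ trivial
  dsimp only at hsW
  have hW : IsAffineOpen W := hW'
  have hV : IsAffineOpen (f ⁻¹ᵁ W) := hW.preimage f
  have hxV : x ∈ f ⁻¹ᵁ W := hsW
  obtain ⟨hp, m, hm1, hm2⟩ := Calg5.mem_weakAss_iff.mp ((isWeakAssPoint_iff_weakAss hF hV hxV).mp hx)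
  have hfin : (f ⁻¹' {f x}).Finite := f.finite_preimage_singleton (f x)
  have hfib : ∀ y ∈ f ⁻¹' {f x}, y ∈ f ⁻¹ᵁ W := fun y hy => by
    change f y ∈ W
    rw [hy]; exact hsW
  -- for every other point of the fibre, a function invertible at `x` killing the witness there
  have key : ∀ y ∈ f ⁻¹' {f x}, ∀ hy : y ∈ f ⁻¹ᵁ W, y ≠ x →
      ∃ g h : Γ(X, f ⁻¹ᵁ W), g ∉ (hV.primeIdealOf ⟨x, hxV⟩).asIdeal ∧
        h ∉ (hV.primeIdealOf ⟨y, hy⟩).asIdeal ∧ (h * g) • m = 0 := by
    intro y hyf hy hne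
    by_contra hno
    simp only [not_exists, not_and] at hno
    have hdisj : Disjoint ((Submodule.span Γ(X, f ⁻¹ᵁ W) {m}).annihilator : Set Γ(X, f ⁻¹ᵁ W))
        ↑((hV.primeIdealOf ⟨x, hxV⟩).asIdeal.primeCompl ⊔
          (hV.primeIdealOf ⟨y, hy⟩).asIdeal.primeCompl) := by
      rw [Set.disjoint_left]
      intro r hr hmem
      obtain ⟨g, hg, h, hh, rfl⟩ := Submonoid.mem_sup.mp hmem
      exact hno g h hg hh (by rw [mul_comm]; exact Calg5.mem_ann.mp hr)
    obtain ⟨q, hq, hJq, hqd⟩ := Ideal.exists_le_prime_disjoint _ _ hdisj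
    have hqx : q ≤ (hV.primeIdealOf ⟨x, hxV⟩).asIdeal := fun r hr => by
      by_contra hrp
      exact Set.disjoint_left.mp hqd hr (Submonoid.mem_sup_left hrp)
    have hqy : q ≤ (hV.primeIdealOf ⟨y, hy⟩).asIdeal := fun r hr => by
      by_contra hrp
      exact Set.disjoint_left.mp hqd hr (Submonoid.mem_sup_right hrp)
    have hmin := (Calg5.isWA_iff_mem_minimalPrimes).mp
      (⟨hm1, hm2⟩ : Calg5.IsWA (hV.primeIdealOf ⟨x, hxV⟩).asIdeal m)
    have hxq : (hV.primeIdealOf ⟨x, hxV⟩).asIdeal ≤ q := hmin.2 ⟨hq, hJq⟩ hqx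
    have hsp := ((PrimeSpectrum.le_iff_specializes (hV.primeIdealOf ⟨x, hxV⟩)
      (hV.primeIdealOf ⟨y, hy⟩)).mp (hxq.trans hqy)).map hV.fromSpec.continuous
    rw [hV.fromSpec_primeIdealOf, hV.fromSpec_primeIdealOf] at hsp
    have hincomp : (hV.primeIdealOf ⟨y, hy⟩).asIdeal ≤ (hV.primeIdealOf ⟨x, hxV⟩).asIdeal := by
      have hint := IsFinite.finite_app (f := f) W hW
      algebraize [(f.app W).hom]
      have hcx := IsAffineOpen.comap_primeIdealOf_appLE W hW (f ⁻¹ᵁ W) hV le_rfl hxV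
      have hcy := IsAffineOpen.comap_primeIdealOf_appLE W hW (f ⁻¹ᵁ W) hV le_rfl hy
      have hfy : f y = f x := hyf
      have e : hW.primeIdealOf ⟨f y, le_rfl (a := f ⁻¹ᵁ W) hy⟩ = hW.primeIdealOf ⟨f x, hsW⟩ :=
        congrArg hW.primeIdealOf (Subtype.ext hfy)
      have hlt := hxq.trans hqy
      by_contra hnle
      have hlt' : (hV.primeIdealOf ⟨x, hxV⟩).asIdeal < (hV.primeIdealOf ⟨y, hy⟩).asIdeal :=
        lt_of_le_not_ge hlt hnle
      have := Ideal.IsIntegral.comap_lt_comap (R := Γ(S, W)) hlt'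
      apply this.ne
      have h1 := congrArg PrimeSpectrum.asIdeal hcx
      have h2 := congrArg PrimeSpectrum.asIdeal (hcy.trans e)
      rw [Scheme.Hom.appLE_eq_app] at h1 h2
      exact h1.trans h2.symm
    have h2 := ((PrimeSpectrum.le_iff_specializes (hV.primeIdealOf ⟨y, hy⟩)
      (hV.primeIdealOf ⟨x, hxV⟩)).mp hincomp).map hV.fromSpec.continuous
    rw [hV.fromSpec_primeIdealOf, hV.fromSpec_primeIdealOf] at h2
    exact hne (h2.antisymm hsp).eq
  classical
  choose! g h hg hh hgh using key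
  let T := hfin.toFinset.erase x
  let G : Γ(X, f ⁻¹ᵁ W) := ∏ y ∈ T.attach, g y.1
  have hT : ∀ y : T, y.1 ∈ f ⁻¹' {f x} ∧ y.1 ≠ x := fun y =>
    ⟨hfin.mem_toFinset.mp (Finset.mem_of_mem_erase y.2), Finset.ne_of_mem_erase y.2⟩
  have hGx : G ∉ (hV.primeIdealOf ⟨x, hxV⟩).asIdeal := by
    intro hmem
    obtain ⟨y, -, hy⟩ := ((hV.primeIdealOf ⟨x, hxV⟩).2.prod_mem_iff).mp hmem
    exact hg y.1 (hT y).1 (hfib y.1 (hT y).1) (hT y).2 hy
  rw [isWeakAssPoint_iff]
  refine ⟨((Scheme.Modules.pushforward f).obj F).presheaf.germ W (f x) hsW (G • m), ?_, ?_⟩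
  · intro a ha hu
    obtain ⟨W', hle, hs', h0⟩ :=
      (push_germ_eq_zero_iff (F := F) f hsW (G • m)).mp (hu.smul_eq_zero.mp ha)
    have hx' : x ∈ f ⁻¹ᵁ W' := hs'
    have h1 := congrArg (F.presheaf.germ (f ⁻¹ᵁ W') x hx').hom h0
    erw [TopCat.Presheaf.germ_res_apply] at h1
    erw [map_zero, germ_smul_mod] at h1
    have h2 := (IsUnit.smul_eq_zero ((isUnit_germ_iff hV hxV G).mpr hGx)).mp h1
    obtain ⟨c, hc, hc0⟩ := (germ_eq_zero_iff hV hxV hF m).mp h2
    exact (isUnit_germ_iff hV hxV c).mp hc (hm1 c hc0)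
  · intro a ha
    obtain ⟨r, c, hc, hac⟩ := exists_germ_mul_eq hW hsW a
    have hr : f.app W r ∈ (hV.primeIdealOf ⟨x, hxV⟩).asIdeal := by
      have hr : r ∈ (hW.primeIdealOf ⟨f x, hsW⟩).asIdeal := by
        by_contra hrp
        exact ha (isUnit_of_mul_isUnit_left (hac ▸ (isUnit_germ_iff hW hsW r).mpr hrp))
      rw [← IsAffineOpen.comap_primeIdealOf_appLE W hW (f ⁻¹ᵁ W) hV le_rfl hxV] at hr
      rw [← Scheme.Hom.appLE_eq_app]
      exact hr
    obtain ⟨t, ht, n, hn⟩ := hm2 _ hr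
    refine ⟨n, ?_⟩
    have h0 : ∀ y ∈ f ⁻¹' {f x}, ∀ hy : y ∈ f ⁻¹ᵁ W,
        F.presheaf.germ (f ⁻¹ᵁ W) y hy (f.app W r ^ n • (G • m)) = 0 := by
      intro y hyf hy
      rcases eq_or_ne y x with rfl | hne
      · refine (germ_eq_zero_iff hV hy hF _).mpr ⟨t, (isUnit_germ_iff hV hy t).mpr ht, ?_⟩
        rw [smul_smul, smul_smul, show t * f.app W r ^ n * G = G * (t * f.app W r ^ n) by ring,
          mul_smul, hn, smul_zero]
      · refine (germ_eq_zero_iff hV hy hF _).mpr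
          ⟨h y, (isUnit_germ_iff hV hy _).mpr (hh y hyf hy hne), ?_⟩
        have hyT : y ∈ T := Finset.mem_erase.mpr ⟨hne, hfin.mem_toFinset.mpr hyf⟩
        have hG : G = (∏ z ∈ T.attach.erase ⟨y, hyT⟩, g z.1) * g y :=
          (Finset.prod_erase_mul T.attach _ (Finset.mem_attach T ⟨y, hyT⟩)).symm
        rw [hG, smul_smul, smul_smul,
          show ∀ p u v w : Γ(X, f ⁻¹ᵁ W), p * u * (v * w) = (u * v) * (p * w) from
            fun p u v w => by ring,
          mul_smul, hgh y hyf hy hne, smul_zero]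
    choose O hO hxO hO0 using fun y : (f ⁻¹' {f x} : Set X) =>
      show ∃ (O : X.Opens) (hO : O ≤ f ⁻¹ᵁ W), y.1 ∈ O ∧
          F.presheaf.map (homOfLE hO).op (f.app W r ^ n • (G • m)) = 0 by
        have e := h0 y.1 y.2 (hfib y.1 y.2)
        rw [← map_zero (F.presheaf.germ (f ⁻¹ᵁ W) y.1 (hfib y.1 y.2)).hom] at e
        obtain ⟨O, hyO, i, j, he⟩ := F.presheaf.germ_eq y.1 _ _ _ _ e
        rw [map_zero] at he
        exact ⟨O, i.le, hyO, he⟩
    let K : Set X := ((⨆ y, O y : X.Opens) : Set X)ᶜ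
    have hK : IsClosed (f '' K) := f.isClosedMap _ (⨆ y, O y : X.Opens).2.isClosed_compl
    let W' : S.Opens := W ⊓ ⟨(f '' K)ᶜ, hK.isOpen_compl⟩
    have hsW' : f x ∈ W' := by
      refine ⟨hsW, ?_⟩
      rintro ⟨y, hy, hye⟩
      exact hy (Opens.mem_iSup.mpr ⟨⟨y, hye⟩, hxO _⟩)
    refine (hc.pow n).smul_eq_zero.mp ?_
    rw [smul_smul, mul_comm, ← mul_pow, hac, ← map_pow]
    refine (germ_smul_mod hsW ((Scheme.Modules.pushforward f).obj F) (r ^ n) (G • m)).symm.trans ?_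
    rw [push_smul_def]
    refine (push_germ_eq_zero_iff (F := F) f hsW _).mpr ⟨W', inf_le_left, hsW', ?_⟩
    refine TopCat.Presheaf.section_ext ⟨F.presheaf, F.isSheaf⟩ _ _ 0 fun z hz => ?_
    erw [map_zero, TopCat.Presheaf.germ_res_apply]
    have hzU : z ∈ (⨆ y, O y : X.Opens) := by
      by_contra hne
      exact hz.2 ⟨z, hne, rfl⟩
    obtain ⟨y, hzy⟩ := Opens.mem_iSup.mp hzU
    have e := congrArg (F.presheaf.germ (O y) z hzy).hom (hO0 y)
    erw [TopCat.Presheaf.germ_res_apply] at e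
    erw [map_zero] at e
    rw [map_pow]
    exact e

end Push

end Groth.Divisors
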